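import Groth.Prelude.Def_Coh
import Groth.Agent.QCoh.RpushAbGod
import Groth.Agent.TriCat.RightDerivedBridge
import Groth.Agent.Lib.KoszulChop

/-!
# Exact sequences of higher direct images, and chopping Koszul complexes
-/

set_option autoImplicit false
set_option backward.isDefEq.respectTransparency false
set_option backward.isDefEq.respectTransparency.types false

universe u

open CategoryTheory CategoryTheory.Limits AlgebraicGeometry TopologicalSpace

namespace Groth.Agent.KRRLib.Pn

open Groth.Agent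

variable {X Y : Scheme.{u}} (f : X ⟶ Y)

/-- The higher direct images of the underlying abelian sheaves, as functors of modules. -/
noncomputable abbrev R (i : ℕ) : X.Modules ⥤ Sheaf (Opens.grothendieckTopology Y) AddCommGrpCat.{u} :=
  QCoh.toAbFunctor X ⋙ Coh.RpushAb f i

theorem R_obj (i : ℕ) (G : X.Modules) : (R f i).obj G = (Coh.RpushAb f i).obj (Coh.toAb G) := rfl

theorem isZero_R_iso (i : ℕ) {G G' : X.Modules} (e : G ≅ G') (h : IsZero ((R f i).obj G)) :
    IsZero ((R f i).obj G') := h.of_iso ((R f i).mapIso e).symm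

theorem isZero_R_of_isZero (i : ℕ) {G : X.Modules} (h : IsZero G) : IsZero ((R f i).obj G) :=
  (R f i).map_isZero h

variable {S : ShortComplex X.Modules} (hS : S.ShortExact)
include hS

theorem toAb_shortExact' : (S.map (QCoh.toAbFunctor X)).ShortExact := QCoh.toAb_shortExact hS

theorem isZero_R_X₂ (i : ℕ) (h₁ : IsZero ((R f i).obj S.X₁)) (h₃ : IsZero ((R f i).obj S.X₃)) :
    IsZero ((R f i).obj S.X₂) := by
  haveI := QCoh.preservesFiniteLimits_pushAb f
  let := HasDerivedCategory.standard (Sheaf (Opens.grothendieckTopology X) AddCommGrpCat.{u})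
  let := HasDerivedCategory.standard (Sheaf (Opens.grothendieckTopology Y) AddCommGrpCat.{u})
  obtain ⟨δ, w₁, w₂, w₃, e₁, -, -⟩ := TriCat.exists_rightDerived_ses (Coh.pushAb f) (toAb_shortExact' hS) i
  exact e₁.isZero_X₂ (h₁.eq_of_src _ _) (h₃.eq_of_tgt _ _)

theorem isZero_R_X₃ (i : ℕ) (h₂ : IsZero ((R f i).obj S.X₂)) (h₁ : IsZero ((R f (i + 1)).obj S.X₁)) :
    IsZero ((R f i).obj S.X₃) := by
  haveI := QCoh.preservesFiniteLimits_pushAb f
  let := HasDerivedCategory.standard (Sheaf (Opens.grothendieckTopology X) AddCommGrpCat.{u})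
  let := HasDerivedCategory.standard (Sheaf (Opens.grothendieckTopology Y) AddCommGrpCat.{u})
  obtain ⟨δ, w₁, w₂, w₃, -, e₂, -⟩ := TriCat.exists_rightDerived_ses (Coh.pushAb f) (toAb_shortExact' hS) i
  exact e₂.isZero_X₂ (h₂.eq_of_src _ _) (h₁.eq_of_tgt _ _)

theorem isZero_R_X₁_succ (i : ℕ) (h₂ : IsZero ((R f (i + 1)).obj S.X₂))
    (h₃ : IsZero ((R f i).obj S.X₃) ∨ Epi ((R f i).map S.g)) :
    IsZero ((R f (i + 1)).obj S.X₁) := by
  haveI := QCoh.preservesFiniteLimits_pushAb f
  let := HasDerivedCategory.standard (Sheaf (Opens.grothendieckTopology X) AddCommGrpCat.{u})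
  let := HasDerivedCategory.standard (Sheaf (Opens.grothendieckTopology Y) AddCommGrpCat.{u})
  obtain ⟨δ, w₁, w₂, w₃, -, -, e₃⟩ := TriCat.exists_rightDerived_ses (Coh.pushAb f) (toAb_shortExact' hS) i
  refine e₃.isZero_X₂ ?_ (h₂.eq_of_tgt _ _)
  rcases h₃ with h | h
  · exact h.eq_of_src _ _
  · haveI : Epi (((Coh.pushAb f).rightDerived i).map (S.map (QCoh.toAbFunctor X)).g) := h
    exact zero_of_epi_comp _ w₂

theorem epi_R_zero (h₁ : IsZero ((R f 1).obj S.X₁)) : Epi ((R f 0).map S.g) := by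
  haveI := QCoh.preservesFiniteLimits_pushAb f
  let := HasDerivedCategory.standard (Sheaf (Opens.grothendieckTopology X) AddCommGrpCat.{u})
  let := HasDerivedCategory.standard (Sheaf (Opens.grothendieckTopology Y) AddCommGrpCat.{u})
  obtain ⟨δ, w₁, w₂, w₃, -, e₂, -⟩ := TriCat.exists_rightDerived_ses (Coh.pushAb f) (toAb_shortExact' hS) 0
  exact e₂.epi_f (h₁.eq_of_tgt _ _)

omit hS

/-- On degree zero the derived functor is the direct image. -/
theorem epi_R_zero_iff {G G' : X.Modules} (φ : G ⟶ G') :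
    Epi ((R f 0).map φ) ↔ Epi ((Coh.pushAb f).map ((QCoh.toAbFunctor X).map φ)) := by
  haveI := QCoh.preservesFiniteLimits_pushAb f
  exact (MorphismProperty.epimorphisms _).arrow_mk_iso_iff
    (Arrow.isoOfNatIso (Coh.pushAb f).rightDerivedZeroIsoSelf (Arrow.mk ((QCoh.toAbFunctor X).map φ)))

section Chop

variable {J : Type*} (M : ℤ → X.Modules) (x : J → ∀ d : ℤ, M (d - 1) ⟶ M d)
  (hx : ∀ (i j : J) (d : ℤ), x i (d - 1) ≫ x j d = x j (d - 1) ≫ x i d)

theorem isZero_R_biprod {A B : X.Modules} (i : ℕ) (hA : IsZero ((R f i).obj A)) (hB : IsZero ((R f i).obj B)) :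
    IsZero ((R f i).obj (A ⊞ B)) :=
  isZero_R_X₂ f (S := ShortComplex.mk (biprod.inl : A ⟶ A ⊞ B) biprod.snd biprod.inl_snd)
    (ShortComplex.Splitting.ofHasBinaryBiproduct A B).shortExact i hA hB

theorem isZero_R_obj (i : ℕ) : ∀ (l : List J) (d : ℤ) (p : ℕ),
    IsZero ((R f i).obj (M (d - p))) → IsZero ((R f i).obj (KoszulChop.obj M l d p))
  | [], d, 0, h => by simpa [KoszulChop.obj] using h
  | _ :: l, d, 0, h => isZero_R_obj i l d 0 h
  | [], d, _ + 1, _ => isZero_R_of_isZero f i (KoszulChop.isZero_obj M [] d _ (by simp))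
  | _ :: l, d, p + 1, h => isZero_R_biprod f i (isZero_R_obj i l d (p + 1) h)
      (isZero_R_obj i l (d - 1) p (by rwa [show d - 1 - (p : ℤ) = d - ((p + 1 : ℕ) : ℤ) by omega]))

variable (l : List J) (hcov : ∀ y : X, ∃ j ∈ l, ∀ d, Function.Bijective ((KFlatLib.stalkAb y).map (x j d)))

include hx hcov in
theorem isZero_R_kernel (d : ℤ) (i : ℕ)
    (h : ∀ p : ℕ, IsZero ((R f (i + p)).obj (KoszulChop.obj M l d (p + 1)))) :
    ∀ p : ℕ, IsZero ((R f (i + p + 1)).obj (kernel (KoszulChop.dd M x l d p))) := by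
  suffices ∀ m p : ℕ, l.length ≤ p + m → IsZero ((R f (i + p + 1)).obj (kernel (KoszulChop.dd M x l d p))) from
    fun p => this l.length p (Nat.le_add_left _ _)
  intro m
  induction m with
  | zero =>
    intro p hp
    exact isZero_R_of_isZero f _ (IsZero.of_mono (kernel.ι _) (KoszulChop.isZero_obj M l d (p + 1) (by omega)))
  | succ m ih =>
    intro p hp
    exact isZero_R_X₃ f (KoszulChop.shortExact_piece M x hx l d p (KoszulChop.exact_dd M x hx l hcov d p)) _
      (by simpa [Nat.add_assoc] using h (p + 1)) (by simpa [Nat.add_assoc] using ih (p + 1) (by omega))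

include hx hcov in
/-- Vanishing for the last term. -/
theorem isZero_R_last (d : ℤ) (i : ℕ)
    (h : ∀ p : ℕ, IsZero ((R f (i + p)).obj (KoszulChop.obj M l d (p + 1)))) :
    IsZero ((R f i).obj (M d)) := by
  have hk := isZero_R_kernel f M x hx l hcov d i h 0
  haveI := KoszulChop.epi_dd M x hx l hcov d
  haveI := KoszulChop.isIso_e0 M l d
  refine isZero_R_iso f i (asIso (KoszulChop.e0 M l d)) ?_
  exact isZero_R_X₃ f (S := ShortComplex.mk (kernel.ι (KoszulChop.dd M x l d 0)) _ (kernel.condition _))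
    (ShortComplex.ShortExact.mk' (ShortComplex.exact_of_f_is_kernel _ (kernelIsKernel _)) inferInstance inferInstance)
    i (h 0) hk

include hx hcov in
/-- The direct image of the last differential is onto. -/
theorem epi_R_dd (d : ℤ) (h : ∀ p : ℕ, IsZero ((R f (p + 1)).obj (KoszulChop.obj M l d (p + 2)))) :
    Epi ((R f 0).map (KoszulChop.dd M x l d 0)) := by
  haveI := KoszulChop.epi_dd M x hx l hcov d
  refine epi_R_zero f (S := ShortComplex.mk (kernel.ι (KoszulChop.dd M x l d 0)) _ (kernel.condition _))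
    (ShortComplex.ShortExact.mk' (ShortComplex.exact_of_f_is_kernel _ (kernelIsKernel _)) inferInstance inferInstance) ?_
  suffices ∀ m p : ℕ, l.length ≤ p + m → IsZero ((R f (p + 1)).obj (kernel (KoszulChop.dd M x l d p))) from
    this l.length 0 (Nat.le_add_left _ _)
  intro m
  induction m with
  | zero =>
    intro p hp
    exact isZero_R_of_isZero f _ (IsZero.of_mono (kernel.ι _) (KoszulChop.isZero_obj M l d (p + 1) (by omega)))
  | succ m ih =>
    intro p hp
    exact isZero_R_X₃ f (KoszulChop.shortExact_piece M x hx l d p (KoszulChop.exact_dd M x hx l hcov d p)) _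
      (h p) (ih (p + 1) (by omega))

end Chop

end Groth.Agent.KRRLib.Pn
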