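import Groth.Agent.KRRLib.Pn.Twist
import Groth.Agent.KRRLib.Pn.RpushLES

/-!
# Castelnuovo–Mumford regularity relative to `P^n_T ⟶ T`
-/

set_option autoImplicit false
set_option backward.isDefEq.respectTransparency false
set_option backward.isDefEq.respectTransparency.types false

universe u

open CategoryTheory CategoryTheory.Limits AlgebraicGeometry TopologicalSpace

namespace Groth.Agent.KRRLib.Pn

open Groth.Agent

variable {n : ℕ} {T : Scheme.{u}} {F : (KRR.PY n T).Modules}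

theorem reg_iff : KRR.IsRegSheaf n T F ↔
    ∀ i : ℕ, 1 ≤ i → IsZero ((R (KRR.pr n T) i).obj (KRR.twF n T (-(i : ℤ)) F)) := Iff.rfl

theorem isZero_R_twF_congr (i : ℕ) {a b : ℤ} (h : a = b) (G : (KRR.PY n T).Modules)
    (hz : IsZero ((R (KRR.pr n T) i).obj (KRR.twF n T a G))) :
    IsZero ((R (KRR.pr n T) i).obj (KRR.twF n T b G)) := h ▸ hz

/-- Regularity propagates. -/
theorem reg_add (hF : KRR.IsRegSheaf n T F) :
    ∀ (e : ℕ) (i : ℕ), 1 ≤ i → IsZero ((R (KRR.pr n T) i).obj (KRR.twF n T ((e : ℤ) - i) F)) := by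
  intro e
  induction e with
  | zero => intro i hi; exact isZero_R_twF_congr i (by omega) F (reg_iff.1 hF i hi)
  | succ e ih =>
    intro i hi
    refine isZero_R_last (KRR.pr n T) (fun d => KRR.twF n T d F) (xF n T F) (xF_comm n T F) _ (covered n T F)
      (((e + 1 : ℕ) : ℤ) - i) i fun p => ?_
    exact isZero_R_obj _ _ _ _ _ _ (isZero_R_twF_congr _ (by push_cast; omega) F (ih (i + p) (by omega)))

theorem reg_twF (hF : KRR.IsRegSheaf n T F) (m : ℕ) : KRR.IsRegSheaf n T (KRR.twF n T (m : ℤ) F) :=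
  reg_iff.2 fun i hi => by
    obtain ⟨e⟩ := twF_twF n T (-(i : ℤ)) (m : ℤ) F
    exact isZero_R_iso _ _ e.symm (isZero_R_twF_congr i (by omega) F (reg_add hF m i hi))

/-- A regular sheaf has no higher direct images. -/
theorem isZero_R_of_reg (hF : KRR.IsRegSheaf n T F) (i : ℕ) (hi : 1 ≤ i) :
    IsZero ((R (KRR.pr n T) i).obj F) := by
  obtain ⟨e⟩ := twF_zero n T F
  exact isZero_R_iso _ _ e (isZero_R_twF_congr i (by omega) F (reg_add hF i i hi))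

theorem reg_iso {G : (KRR.PY n T).Modules} (e : F ≅ G) (hF : KRR.IsRegSheaf n T F) : KRR.IsRegSheaf n T G :=
  reg_iff.2 fun i hi => isZero_R_iso _ _ ((twFun n T (-(i : ℤ))).mapIso e) (reg_iff.1 hF i hi)

variable {S : ShortComplex (KRR.PY n T).Modules} (hS : S.ShortExact)
include hS

theorem reg_X₂ (h₁ : KRR.IsRegSheaf n T S.X₁) (h₃ : KRR.IsRegSheaf n T S.X₃) : KRR.IsRegSheaf n T S.X₂ :=
  reg_iff.2 fun i hi =>
    isZero_R_X₂ (KRR.pr n T) (shortExact_twFun n T (-(i : ℤ)) hS) i (reg_iff.1 h₁ i hi) (reg_iff.1 h₃ i hi)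

theorem reg_X₃ (h₂ : KRR.IsRegSheaf n T S.X₂) (h₁ : KRR.IsRegSheaf n T (KRR.twF n T 1 S.X₁)) :
    KRR.IsRegSheaf n T S.X₃ :=
  reg_iff.2 fun i hi => by
    refine isZero_R_X₃ (KRR.pr n T) (shortExact_twFun n T (-(i : ℤ)) hS) i (reg_iff.1 h₂ i hi) ?_
    obtain ⟨e⟩ := twF_twF n T (-((i + 1 : ℕ) : ℤ)) 1 S.X₁
    exact isZero_R_twF_congr _ (by omega) _ (isZero_R_iso _ _ e (reg_iff.1 h₁ (i + 1) (by omega)))

theorem reg_X₁ (h₂ : KRR.IsRegSheaf n T (KRR.twF n T 1 S.X₂)) (h₃ : KRR.IsRegSheaf n T S.X₃)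
    (hepi : Epi ((R (KRR.pr n T) 0).map S.g)) : KRR.IsRegSheaf n T (KRR.twF n T 1 S.X₁) := by
  refine reg_iff.2 fun i hi => ?_
  obtain ⟨j, rfl⟩ : ∃ j, i = j + 1 := ⟨i - 1, by omega⟩
  obtain ⟨e⟩ := twF_twF n T (-((j + 1 : ℕ) : ℤ)) 1 S.X₁
  refine isZero_R_iso _ _ e.symm (isZero_R_twF_congr _ (show -(j : ℤ) = _ by omega) _ ?_)
  obtain ⟨e₂⟩ := twF_twF n T (-((j + 1 : ℕ) : ℤ)) 1 S.X₂
  have h₂' : IsZero ((R (KRR.pr n T) (j + 1)).obj (KRR.twF n T (-(j : ℤ)) S.X₂)) :=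
    isZero_R_twF_congr _ (by omega) _ (isZero_R_iso _ _ e₂ (reg_iff.1 h₂ (j + 1) hi))
  refine isZero_R_X₁_succ (KRR.pr n T) (shortExact_twFun n T (-(j : ℤ)) hS) j h₂' ?_
  rcases Nat.eq_zero_or_pos j with rfl | hj
  · right
    obtain ⟨a⟩ := exists_twFun_zero n T
    show Epi ((R (KRR.pr n T) 0).map ((twFun n T 0).map S.g))
    exact ((MorphismProperty.epimorphisms _).arrow_mk_iso_iff ((R (KRR.pr n T) 0).mapArrow.mapIso
      (Arrow.isoOfNatIso a (Arrow.mk S.g)))).2 hepi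
  · exact Or.inl (reg_iff.1 h₃ j hj)

end Groth.Agent.KRRLib.Pn
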