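import Groth.Agent.KRRLib.Pn.Ext
import Groth.Agent.KRRLib.Pn.Reg

/-!
# A regular sheaf is generated by its sections relative to the base
-/

set_option autoImplicit false
set_option backward.isDefEq.respectTransparency false
set_option backward.isDefEq.respectTransparency.types false

universe u

open CategoryTheory CategoryTheory.Limits AlgebraicGeometry TopologicalSpace Opposite

namespace Groth.Agent.KRRLib.Pn

open Groth.Agent Groth.Agent.AModX

theorem map_dd_eq_zero {C D : Type*} [Category C] [Category D] [Preadditive C] [Preadditive D]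
    [HasBinaryBiproducts C] [HasZeroObject C] (P : C ⥤ D) [P.Additive] {J : Type*} (M : ℤ → C)
    (x : J → ∀ d : ℤ, M (d - 1) ⟶ M d) {d : ℤ} {Q : C} (φ : M d ⟶ Q) :
    ∀ l : List J, (∀ j ∈ l, P.map (x j d ≫ φ) = 0) →
      P.map (KoszulChop.dd M x l d 0 ≫ KoszulChop.e0 M l d ≫ φ) = 0
  | [], _ => by simp [KoszulChop.dd]
  | i :: l, h => by
    have h1 := map_dd_eq_zero P M x φ l fun j hj => h j (List.mem_cons_of_mem _ hj)
    have h2 : P.map (KoszulChop.xm M x i l d 0 ≫ KoszulChop.e0 M l d ≫ φ) = 0 := by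
      rw [← Category.assoc, KoszulChop.xm_e0, Category.assoc, P.map_comp, h i (List.mem_cons_self ..), comp_zero]
    show P.map (biprod.desc (KoszulChop.dd M x l d 0) (KoszulChop.xm M x i l d 0) ≫ KoszulChop.e0 M l d ≫ φ) = 0
    rw [biprod.desc_eq, Preadditive.add_comp, Category.assoc, Category.assoc, P.map_add, P.map_comp, h1,
      P.map_comp biprod.snd, h2, comp_zero, comp_zero, add_zero]

theorem nat_twF_congr {n : ℕ} {T : Scheme.{u}} {F Q : (KRR.PY n T).Modules} (c : F ⟶ Q) {a b : ℤ} (h : a = b)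
    (hz : (Scheme.Modules.pushforward (KRR.pr n T)).map ((twFun n T a).map c) = 0) :
    (Scheme.Modules.pushforward (KRR.pr n T)).map ((twFun n T b).map c) = 0 := by
  subst h; exact hz

variable {n : ℕ} {T : Scheme.{u}} {F : (KRR.PY n T).Modules}

theorem pushforward_map_twFun_eq_zero (hreg : KRR.IsRegSheaf n T F) {Q : (KRR.PY n T).Modules} (c : F ⟶ Q)
    (hc : (Scheme.Modules.pushforward (KRR.pr n T)).map c = 0) :
    ∀ e : ℕ, (Scheme.Modules.pushforward (KRR.pr n T)).map ((twFun n T (e : ℤ)).map c) = 0 := by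
  intro e
  induction e with
  | zero =>
    obtain ⟨a⟩ := exists_twFun_zero n T
    show (Scheme.Modules.pushforward (KRR.pr n T)).map ((twFun n T 0).map c) = 0
    rw [← NatIso.naturality_2 a c, Functor.map_comp, Functor.map_comp, Functor.id_map, hc, zero_comp, comp_zero]
  | succ e ih =>
    let l := (Finset.univ : Finset (ULift.{u} (Fin (n + 1)))).toList
    let M : ℤ → (KRR.PY n T).Modules := fun d => KRR.twF n T d F
    let d : ℤ := ((e + 1 : ℕ) : ℤ)
    haveI hepi : Epi ((R (KRR.pr n T) 0).map (KoszulChop.dd M (xF n T F) l d 0)) :=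
      epi_R_dd (KRR.pr n T) M (xF n T F) (xF_comm n T F) l (covered n T F) d fun p =>
        isZero_R_obj _ _ _ _ _ _ (isZero_R_twF_congr _ (by show _ = d - _; omega) F (reg_add hreg e (p + 1) (by omega)))
    haveI hepi' : Epi ((QCoh.toAbFunctor T).map
        ((Scheme.Modules.pushforward (KRR.pr n T)).map (KoszulChop.dd M (xF n T F) l d 0))) :=
      (epi_R_zero_iff (KRR.pr n T) _).1 hepi
    haveI : (QCoh.toAbFunctor T).Faithful := inferInstanceAs (SheafOfModules.toSheaf T.ringCatSheaf).Faithful
    haveI hepi'' : Epi ((Scheme.Modules.pushforward (KRR.pr n T)).map (KoszulChop.dd M (xF n T F) l d 0)) :=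
      (QCoh.toAbFunctor T).epi_of_epi_map hepi'
    haveI := KoszulChop.isIso_e0 M l d
    have h := map_dd_eq_zero (Scheme.Modules.pushforward (KRR.pr n T)) M (xF n T F) ((twFun n T d).map c) l
      fun j _ => by
        rw [show xF n T F j d ≫ (twFun n T d).map c = (twFun n T (d - 1)).map c ≫ xF n T Q j d from
          (((DCoh.tensorBi (X := KRR.PY n T)).map (xTw n T j d)).naturality c).symm, Functor.map_comp,
          nat_twF_congr c (show (e : ℤ) = d - 1 by omega) ih, zero_comp]
    rw [Functor.map_comp, Functor.map_comp] at h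
    exact zero_of_epi_comp _ (zero_of_epi_comp _ h)

theorem spow_natural {n : ℕ} {T : Scheme.{u}} {F Q : (KRR.PY n T).Modules} (c : F ⟶ Q)
    (j : ULift.{u} (Fin (n + 1))) (e : ℕ) : ∀ r : ℕ,
    spow n T F j e r ≫ (twFun n T ((e + r : ℕ) : ℤ)).map c = (twFun n T (e : ℤ)).map c ≫ spow n T Q j e r
  | 0 => (Category.id_comp _).trans (Category.comp_id _).symm
  | r + 1 => by
    have hstep : ∀ (a d : ℤ) (h : d - 1 = a), stepTo n T F j a d h ≫ (twFun n T d).map c =
        (twFun n T a).map c ≫ stepTo n T Q j a d h := by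
      rintro _ d rfl
      exact (((DCoh.tensorBi (X := KRR.PY n T)).map (xTw n T j d)).naturality c).symm
    show (spow n T F j e r ≫ _) ≫ _ = _ ≫ spow n T Q j e r ≫ _
    rw [Category.assoc, hstep, ← Category.assoc, spow_natural c j e r, Category.assoc]

theorem epi_counit (hF : Coh.IsQCoh F) (hreg : KRR.IsRegSheaf n T F) :
    Epi ((Scheme.Modules.pullbackPushforwardAdjunction (KRR.pr n T)).counit.app F) := by
  let adj := Scheme.Modules.pullbackPushforwardAdjunction (KRR.pr n T)
  refine Preadditive.epi_of_cancel_zero _ fun {Q} c hc => ?_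
  have h0 : (Scheme.Modules.pushforward (KRR.pr n T)).map c = 0 := by
    rw [← Category.id_comp ((Scheme.Modules.pushforward (KRR.pr n T)).map c)]
    erw [← adj.right_triangle_components F]
    rw [Category.assoc, ← Functor.map_comp, hc, Functor.map_zero, comp_zero]
  have h := pushforward_map_twFun_eq_zero hreg c h0
  have hz : (twFun n T 0).map c = 0 := by
    apply Scheme.Modules.hom_ext
    intro W
    ext s
    refine AModX.eq_of_locally _ _ fun p hp => ?_
    obtain ⟨j, hj⟩ := Opens.mem_iSup.1 ((iSup_chart n T).ge (trivial : p ∈ (⊤ : (KRR.PY n T).Opens)))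
    obtain ⟨V, hV, hpV, -⟩ := exists_isAffineOpen_mem_and_subset
      (x := KRR.pr n T p) (U := ⊤) trivial
    have hA := isAffineOpen_piece n T hV j
    obtain ⟨g, hgle, hpg⟩ := hA.exists_basicOpen_le (V := W) ⟨p, hp⟩ (show p ∈ piece n T V j from ⟨hpV, hj⟩)
    refine ⟨(KRR.PY n T).basicOpen g, hgle, hpg, ?_⟩
    show res _ hgle (((twFun n T 0).map c).app W s) = res _ hgle 0
    rw [← app_res, map_zero]
    have hQ : ∀ t : Γ(G n T F 0, piece n T V j), ((twFun n T 0).map c).app _ t = 0 := by
      intro t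
      obtain ⟨N, r, σ, hσ⟩ := exists_extend n T (fun e => isQCoh_twF n T e hF) hV j t
      have hσ0 : ((twFun n T ((0 + N + r : ℕ) : ℤ)).map c).app (KRR.pr n T ⁻¹ᵁ V) σ = 0 :=
        congrArg (fun φ => φ.app V σ) (h (0 + N + r))
      have h1 := congrArg (fun φ => φ.app (piece n T V j) t)
        (show (spow n T F j 0 N ≫ spow n T F j (0 + N) r) ≫ (twFun n T ((0 + N + r : ℕ) : ℤ)).map c =
          (twFun n T 0).map c ≫ spow n T Q j 0 N ≫ spow n T Q j (0 + N) r by
          rw [Category.assoc, spow_natural, ← Category.assoc, spow_natural, Category.assoc]; rfl)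
      have h2 : (spow n T Q j (0 + N) r).app (piece n T V j) ((spow n T Q j 0 N).app (piece n T V j)
          (((twFun n T 0).map c).app (piece n T V j) t)) = 0 := by
        refine h1.symm.trans ?_
        show ((twFun n T ((0 + N + r : ℕ) : ℤ)).map c).app (piece n T V j)
          ((spow n T F j (0 + N) r).app _ ((spow n T F j 0 N).app _ t)) = 0
        rw [← hσ]
        refine (app_res ((twFun n T ((0 + N + r : ℕ) : ℤ)).map c) (inf_le_left : piece n T V j ≤ KRR.pr n T ⁻¹ᵁ V) σ).trans ?_
        rw [hσ0, map_zero]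
      have hb := (bijective_spow n T Q (inf_le_right : piece n T V j ≤ chart n T j) (0 + N) r).comp
        (bijective_spow n T Q (inf_le_right : piece n T V j ≤ chart n T j) 0 N)
      exact hb.1 (h2.trans (by show (0 : _) = _; simp [Function.comp]))
    obtain ⟨m, t, ht⟩ := QCoh.exists_pow_smul_eq_map (isQCoh_twF n T 0 hF) hA g (res _ hgle s)
    have h3 := congrArg (((twFun n T 0).map c).app ((KRR.PY n T).basicOpen g)) ht
    have h4 : ((twFun n T 0).map c).app _ (res (KRR.twF n T 0 F) ((KRR.PY n T).basicOpen_le g) t) =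
        resR ((KRR.PY n T).basicOpen_le g) g ^ m • ((twFun n T 0).map c).app _ (res (KRR.twF n T 0 F) hgle s) :=
      h3.trans (Scheme.Modules.Hom.app_smul _ _ _)
    have h5 := (app_res ((twFun n T 0).map c) ((KRR.PY n T).basicOpen_le g) t).symm.trans h4
    erw [hQ t, map_zero] at h5
    exact ((isUnit_resR ((KRR.PY n T).basicOpen_le g) g le_rfl).pow m).smul_eq_zero.1 h5.symm
  obtain ⟨a⟩ := exists_twFun_zero n T
  show c = (𝟭 _).map (0 : F ⟶ Q) 
  rw [Functor.id_map]
  have := NatIso.naturality_1 a c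
  rw [hz, zero_comp, comp_zero, Functor.id_map] at this
  exact this.symm

end Groth.Agent.KRRLib.Pn
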