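import Groth.Agent.KRRLib.Pn.PullGen
import Groth.Agent.KRRLib.Pn.CounitEpi

/-!
# Resolutions of regular sheaves by twisted pullbacks
-/

set_option autoImplicit false
set_option backward.isDefEq.respectTransparency false
set_option backward.isDefEq.respectTransparency.types false

universe u

open CategoryTheory CategoryTheory.Limits AlgebraicGeometry TopologicalSpace

namespace Groth.Agent.KRRLib.Pn

open Groth.Agent

variable {n : ℕ} {T : Scheme.{u}}

/-- The counit `pr^* pr_* F ⟶ F`. -/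
noncomputable abbrev eps (F : (KRR.PY n T).Modules) :
    (Scheme.Modules.pullback (KRR.pr n T)).obj ((Scheme.Modules.pushforward (KRR.pr n T)).obj F) ⟶ F :=
  (Scheme.Modules.pullbackPushforwardAdjunction (KRR.pr n T)).counit.app F

/-- The sequence of the counit. -/
noncomputable abbrev epsSC (F : (KRR.PY n T).Modules) : ShortComplex (KRR.PY n T).Modules :=
  ShortComplex.mk (kernel.ι (eps F)) (eps F) (kernel.condition (eps F))

variable {F : (KRR.PY n T).Modules}

theorem isQCoh_eps_src (hF : Coh.IsQCoh F) : Coh.IsQCoh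
    ((Scheme.Modules.pullback (KRR.pr n T)).obj ((Scheme.Modules.pushforward (KRR.pr n T)).obj F)) :=
  QCoh.isQCoh_pullback (KRR.pr n T) (QCoh.isQCoh_pushforward (KRR.pr n T) hF)

theorem isQCoh_kernel_eps (hF : Coh.IsQCoh F) : Coh.IsQCoh (kernel (eps F)) :=
  QCoh.isQCoh_kernel (isQCoh_eps_src hF) hF (eps F)

theorem shortExact_epsSC (hF : Coh.IsQCoh F) (hreg : KRR.IsRegSheaf n T F) : (epsSC F).ShortExact :=
  ShortComplex.ShortExact.mk' (ShortComplex.exact_of_f_is_kernel _ (kernelIsKernel (eps F))) inferInstance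
    (epi_counit hF hreg)

theorem reg_twF_one_pullback {M : T.Modules} (hM : Coh.IsQCoh M) :
    KRR.IsRegSheaf n T (KRR.twF n T 1 ((Scheme.Modules.pullback (KRR.pr n T)).obj M)) :=
  reg_iff.2 fun i hi => by
    obtain ⟨e⟩ := twF_twF n T (-(i : ℤ)) 1 ((Scheme.Modules.pullback (KRR.pr n T)).obj M)
    refine isZero_R_iso _ i e.symm ?_
    rcases Nat.lt_or_ge n i with h | h
    · exact isZero_R_top (isQCoh_twF n T _ (QCoh.isQCoh_pullback _ hM)) i h
    · exact isZero_R_pullback (by omega) i hi hM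

/-- The twisted kernel of the counit of a regular sheaf is regular. -/
theorem reg_kernel_eps (hF : Coh.IsQCoh F) (hreg : KRR.IsRegSheaf n T F) :
    KRR.IsRegSheaf n T (KRR.twF n T 1 (kernel (eps F))) := by
  have hM : Coh.IsQCoh ((Scheme.Modules.pushforward (KRR.pr n T)).obj F) :=
    QCoh.isQCoh_pushforward (KRR.pr n T) hF
  have h₂ : KRR.IsRegSheaf n T (KRR.twF n T 1 (epsSC F).X₂) := reg_twF_one_pullback hM
  have h := reg_X₁ (S := epsSC F) (shortExact_epsSC hF hreg) h₂ hreg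
  refine h ((epi_R_zero_iff (KRR.pr n T) (eps F)).2 ?_)
  haveI : IsSplitEpi ((Scheme.Modules.pushforward (KRR.pr n T)).map (eps F)) :=
    ⟨⟨⟨(Scheme.Modules.pullbackPushforwardAdjunction (KRR.pr n T)).unit.app _,
      (Scheme.Modules.pullbackPushforwardAdjunction (KRR.pr n T)).right_triangle_components F⟩⟩⟩
  exact (inferInstance : Epi ((QCoh.toAbFunctor T).map ((Scheme.Modules.pushforward (KRR.pr n T)).map (eps F))))

theorem isZero_push_kernel_eps (hF : Coh.IsQCoh F) :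
    IsZero ((Scheme.Modules.pushforward (KRR.pr n T)).obj (kernel (eps F))) := by
  let adj := Scheme.Modules.pullbackPushforwardAdjunction (KRR.pr n T)
  haveI := adj.isRightAdjoint
  haveI := isIso_unit_pr (n := n) (QCoh.isQCoh_pushforward (KRR.pr n T) hF)
  haveI : IsIso ((Scheme.Modules.pushforward (KRR.pr n T)).map (eps F)) :=
    IsIso.of_isIso_fac_left (adj.right_triangle_components F)
  haveI : Mono ((Scheme.Modules.pushforward (KRR.pr n T)).map (kernel.ι (eps F))) := inferInstance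
  have h : (Scheme.Modules.pushforward (KRR.pr n T)).map (kernel.ι (eps F)) = 0 := by
    refine zero_of_comp_mono ((Scheme.Modules.pushforward (KRR.pr n T)).map (eps F)) ?_
    rw [← Functor.map_comp, kernel.condition, Functor.map_zero]
  rw [IsZero.iff_id_eq_zero, ← cancel_mono ((Scheme.Modules.pushforward (KRR.pr n T)).map (kernel.ι (eps F))), h,
    comp_zero, comp_zero]

/-- A stage of the resolution. -/
structure Stage (n : ℕ) (T : Scheme.{u}) where
  /-- The module. -/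
  G : (KRR.PY n T).Modules
  isQCoh : Coh.IsQCoh G
  isReg : KRR.IsRegSheaf n T G

/-- The next stage. -/
noncomputable def Stage.next (s : Stage n T) : Stage n T where
  G := KRR.twF n T 1 (kernel (eps s.G))
  isQCoh := isQCoh_twF n T 1 (isQCoh_kernel_eps s.isQCoh)
  isReg := reg_kernel_eps s.isQCoh s.isReg

/-- All stages. -/
noncomputable def Stage.iter (s : Stage n T) : ℕ → Stage n T
  | 0 => s
  | k + 1 => (s.iter k).next

variable (s : Stage n T)

theorem nonempty_shift (k : ℕ) (a b : ℤ) (h : a + 1 = b) :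
    Nonempty (KRR.twF n T a (s.iter (k + 1)).G ≅ KRR.twF n T b (kernel (eps (s.iter k).G))) := by
  obtain ⟨e⟩ := twF_twF n T a 1 (kernel (eps (s.iter k).G))
  exact ⟨e ≪≫ eqToIso (by rw [h])⟩

theorem isZero_R_shift : ∀ q k : ℕ, q + 1 ≤ k →
    IsZero ((R (KRR.pr n T) q).obj (KRR.twF n T (-((q + 1 : ℕ) : ℤ)) (s.iter k).G)) := by
  intro q
  induction q with
  | zero =>
    intro k hk
    obtain ⟨k, rfl⟩ : ∃ j, k = j + 1 := ⟨k - 1, by omega⟩
    obtain ⟨e⟩ := nonempty_shift s k (-((0 + 1 : ℕ) : ℤ)) 0 (by omega)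
    obtain ⟨z⟩ := twF_zero n T (kernel (eps (s.iter k).G))
    obtain ⟨e₀⟩ := QCoh.nonempty_RpushAb_zero_iso (KRR.pr n T) (kernel (eps (s.iter k).G))
    exact isZero_R_iso _ 0 (e ≪≫ z).symm
      (((QCoh.toAbFunctor T).map_isZero (isZero_push_kernel_eps (s.iter k).isQCoh)).of_iso e₀)
  | succ q ih =>
    intro k hk
    obtain ⟨k, rfl⟩ : ∃ j, k = j + 1 := ⟨k - 1, by omega⟩
    obtain ⟨e⟩ := nonempty_shift s k (-((q + 1 + 1 : ℕ) : ℤ)) (-((q + 1 : ℕ) : ℤ)) (by omega)
    refine isZero_R_iso _ (q + 1) e.symm ?_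
    refine isZero_R_X₁_succ (KRR.pr n T)
      (shortExact_twFun n T (-((q + 1 : ℕ) : ℤ)) (shortExact_epsSC (s.iter k).isQCoh (s.iter k).isReg)) q ?_
      (Or.inl (ih k (by omega)))
    rcases Nat.lt_or_ge n (q + 1) with h | h
    · exact isZero_R_top (isQCoh_twF n T _ (isQCoh_eps_src (s.iter k).isQCoh)) (q + 1) h
    · exact isZero_R_pullback (d := -((q + 1 : ℕ) : ℤ)) (by omega) (q + 1) (by omega)
        (QCoh.isQCoh_pushforward (KRR.pr n T) (s.iter k).isQCoh)

theorem isZero_kernel_eps_last : IsZero (kernel (eps (s.iter n).G)) := by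
  let K := kernel (eps (s.iter n).G)
  have hK : Coh.IsQCoh K := isQCoh_kernel_eps (s.iter n).isQCoh
  have hreg : KRR.IsRegSheaf n T K := reg_iff.2 fun i hi => by
    rcases Nat.lt_or_ge n i with h | h
    · exact isZero_R_top (isQCoh_twF n T _ hK) i h
    · obtain ⟨e⟩ := nonempty_shift s n (-((i + 1 : ℕ) : ℤ)) (-(i : ℤ)) (by omega)
      exact isZero_R_iso _ i e (isZero_R_shift s i (n + 1) (by omega))
  haveI := epi_counit hK hreg
  exact IsZero.of_epi (eps K) ((Scheme.Modules.pullback (KRR.pr n T)).map_isZero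
    (isZero_push_kernel_eps (s.iter n).isQCoh))

theorem isZero_iter : ∀ k : ℕ, n < k → IsZero (s.iter k).G
  | 0, h => absurd h (Nat.not_lt_zero n)
  | k + 1, h => by
    show IsZero ((twFun n T 1).obj (kernel (eps (s.iter k).G)))
    refine (twFun n T 1).map_isZero ?_
    rcases Nat.lt_or_ge n k with h' | h'
    · exact IsZero.of_mono (kernel.ι _) ((Scheme.Modules.pullback (KRR.pr n T)).map_isZero
        ((Scheme.Modules.pushforward (KRR.pr n T)).map_isZero (isZero_iter k h')))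
    · obtain rfl : k = n := by omega
      exact isZero_kernel_eps_last s

/-- The direct images. -/
noncomputable def Stage.Tm (k : ℕ) : T.Modules := (Scheme.Modules.pushforward (KRR.pr n T)).obj (s.iter k).G

/-- The terms of the resolution. -/
noncomputable def Stage.X (k : ℕ) : (KRR.PY n T).Modules :=
  KRR.twF n T (-(k : ℤ)) ((Scheme.Modules.pullback (KRR.pr n T)).obj (s.Tm k))

/-- `O(-k) ⊗` the counit. -/
noncomputable def Stage.p (k : ℕ) : s.X k ⟶ KRR.twF n T (-(k : ℤ)) (s.iter k).G :=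
  (twFun n T (-(k : ℤ))).map (eps (s.iter k).G)

/-- The inclusion of the kernel. -/
noncomputable def Stage.i (k : ℕ) : KRR.twF n T (-((k + 1 : ℕ) : ℤ)) (s.iter (k + 1)).G ⟶ s.X k :=
  (nonempty_shift s k (-((k + 1 : ℕ) : ℤ)) (-(k : ℤ)) (by omega)).some.hom ≫
    (twFun n T (-(k : ℤ))).map (kernel.ι (eps (s.iter k).G))

theorem Stage.i_p (k : ℕ) : s.i k ≫ s.p k = 0 := by
  show (_ ≫ (twFun n T (-(k : ℤ))).map (kernel.ι (eps (s.iter k).G))) ≫ _ = 0
  erw [Category.assoc, ← Functor.map_comp, kernel.condition, Functor.map_zero, comp_zero]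

theorem Stage.shortExact_ip (k : ℕ) : (ShortComplex.mk (s.i k) (s.p k) (s.i_p k)).ShortExact := by
  refine ShortComplex.shortExact_of_iso ?_
    (shortExact_twFun n T (-(k : ℤ)) (shortExact_epsSC (s.iter k).isQCoh (s.iter k).isReg))
  exact ShortComplex.isoMk (nonempty_shift s k (-((k + 1 : ℕ) : ℤ)) (-(k : ℤ)) (by omega)).some.symm (Iso.refl _)
    (Iso.refl _) ((Iso.inv_hom_id_assoc _ _).trans (Category.comp_id _).symm)
    ((Category.id_comp _).trans (Category.comp_id _).symm)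

/-- The differential. -/
noncomputable def Stage.d (k : ℕ) : s.X (k + 1) ⟶ s.X k := s.p (k + 1) ≫ s.i k

theorem Stage.d_comp_d (k : ℕ) : s.d (k + 1) ≫ s.d k = 0 := by
  rw [Stage.d, Stage.d, Category.assoc, reassoc_of% (s.i_p (k + 1)), zero_comp, comp_zero]

/-- The resolution. -/
noncomputable def Stage.L : ChainComplex (KRR.PY n T).Modules ℕ := ChainComplex.of s.X s.d s.d_comp_d

/-- The augmentation in degree zero. -/
noncomputable def Stage.aug : s.L.X 0 ⟶ s.G :=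
  s.p 0 ≫ (exists_twFun_zero n T).some.hom.app s.G

theorem Stage.L_d (k : ℕ) : s.L.d (k + 1) k = s.d k := by simp [Stage.L]

theorem Stage.d_aug : s.L.d 1 0 ≫ s.aug = 0 := by
  rw [s.L_d 0, Stage.d, Stage.aug]
  erw [Category.assoc, reassoc_of% (s.i_p 0), zero_comp, comp_zero]

theorem Stage.exact_succ (k : ℕ) : s.L.ExactAt (k + 1) := by
  rw [HomologicalComplex.exactAt_iff' _ (k + 1 + 1) (k + 1) k (by simp) (by simp)]
  have h1 := (s.shortExact_ip (k + 1)).exact
  haveI := (s.shortExact_ip (k + 2)).epi_g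
  haveI := (s.shortExact_ip k).mono_f
  haveI : Epi (s.p (k + 1 + 1)) := (s.shortExact_ip (k + 2)).epi_g
  haveI : Mono (s.i k) := (s.shortExact_ip k).mono_f
  let S₂ : ShortComplex (KRR.PY n T).Modules := ShortComplex.mk (s.i (k + 1)) (s.d k)
    (by rw [Stage.d, reassoc_of% (s.i_p (k + 1)), zero_comp])
  let φ : ShortComplex.mk (s.i (k + 1)) (s.p (k + 1)) (s.i_p (k + 1)) ⟶ S₂ :=
    { τ₁ := 𝟙 _, τ₂ := 𝟙 _, τ₃ := s.i k, comm₁₂ := by simp [S₂], comm₂₃ := by simp [S₂, Stage.d] }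
  haveI : Epi φ.τ₁ := inferInstanceAs (Epi (𝟙 _))
  haveI : IsIso φ.τ₂ := inferInstanceAs (IsIso (𝟙 _))
  haveI : Mono φ.τ₃ := inferInstanceAs (Mono (s.i k))
  have h2 : S₂.Exact := (ShortComplex.exact_iff_of_epi_of_isIso_of_mono φ).1 h1
  let ψ : HomologicalComplex.sc' s.L (k + 1 + 1) (k + 1) k ⟶ S₂ :=
    { τ₁ := s.p (k + 1 + 1), τ₂ := 𝟙 _, τ₃ := 𝟙 _, comm₁₂ := ?_, comm₂₃ := ?_ }
  · haveI : Epi ψ.τ₁ := inferInstanceAs (Epi (s.p (k + 1 + 1)))
    haveI : IsIso ψ.τ₂ := inferInstanceAs (IsIso (𝟙 (s.X (k + 1))))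
    haveI : Mono ψ.τ₃ := inferInstanceAs (Mono (𝟙 (s.X k)))
    exact (ShortComplex.exact_iff_of_epi_of_isIso_of_mono ψ).2 h2
  · show s.p (k + 1 + 1) ≫ s.i (k + 1) = s.L.d (k + 1 + 1) (k + 1) ≫ 𝟙 _
    rw [s.L_d (k + 1), Category.comp_id]
    rfl
  · show 𝟙 _ ≫ s.d k = s.L.d (k + 1) k ≫ 𝟙 _
    rw [s.L_d k, Category.comp_id, Category.id_comp]

theorem Stage.exact_zero : (ShortComplex.mk _ _ s.d_aug).Exact ∧ Epi s.aug := by
  haveI : Epi (s.p 0) := (s.shortExact_ip 0).epi_g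
  refine ⟨?_, by unfold Stage.aug; infer_instance⟩
  haveI : Epi (s.p (0 + 1)) := (s.shortExact_ip 1).epi_g
  let S₂ : ShortComplex (KRR.PY n T).Modules := ShortComplex.mk (s.i 0) s.aug
    (by rw [Stage.aug]; erw [reassoc_of% (s.i_p 0)]; exact zero_comp)
  let φ : ShortComplex.mk (s.i 0) (s.p 0) (s.i_p 0) ⟶ S₂ :=
    { τ₁ := 𝟙 _, τ₂ := 𝟙 _, τ₃ := (exists_twFun_zero n T).some.hom.app s.G, comm₁₂ := by simp [S₂],
      comm₂₃ := Category.id_comp _ }
  haveI : Epi φ.τ₁ := inferInstanceAs (Epi (𝟙 _))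
  haveI : IsIso φ.τ₂ := inferInstanceAs (IsIso (𝟙 _))
  haveI : Mono φ.τ₃ := inferInstanceAs (Mono ((exists_twFun_zero n T).some.hom.app s.G))
  have h2 : S₂.Exact := (ShortComplex.exact_iff_of_epi_of_isIso_of_mono φ).1 (s.shortExact_ip 0).exact
  let ψ : ShortComplex.mk _ _ s.d_aug ⟶ S₂ :=
    { τ₁ := s.p (0 + 1), τ₂ := 𝟙 _, τ₃ := 𝟙 _, comm₁₂ := ?_, comm₂₃ := ?_ }
  · haveI : Epi ψ.τ₁ := inferInstanceAs (Epi (s.p (0 + 1)))
    haveI : IsIso ψ.τ₂ := inferInstanceAs (IsIso (𝟙 (s.X 0)))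
    haveI : Mono ψ.τ₃ := inferInstanceAs (Mono (𝟙 s.G))
    exact (ShortComplex.exact_iff_of_epi_of_isIso_of_mono ψ).2 h2
  · show s.p (0 + 1) ≫ s.i 0 = s.L.d 1 0 ≫ 𝟙 _
    rw [s.L_d 0, Category.comp_id]
    rfl
  · exact (Category.id_comp _).trans (Category.comp_id _).symm

theorem exists_resolution (hF : Coh.IsQCoh F) (hreg : KRR.IsRegSheaf n T F) :
    ∃ (Tm : ℕ → T.Modules) (L : ChainComplex (KRR.PY n T).Modules ℕ)
      (π : L ⟶ (ChainComplex.single₀ (KRR.PY n T).Modules).obj F),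
      (∀ i, Coh.IsQCoh (Tm i)) ∧
      (∀ i, i ≤ n → Nonempty (L.X i ≅
        KRR.twF n T (-(i : ℤ)) ((Scheme.Modules.pullback (KRR.pr n T)).obj (Tm i)))) ∧
      (∀ i, n < i → IsZero (L.X i)) ∧ QuasiIso π := by
  let s : Stage n T := ⟨F, hF, hreg⟩
  refine ⟨s.Tm, s.L, (ChainComplex.toSingle₀Equiv s.L F).symm ⟨s.aug, s.d_aug⟩,
    fun i => QCoh.isQCoh_pushforward (KRR.pr n T) (s.iter i).isQCoh, fun i _ => ⟨Iso.refl _⟩, fun i hi => ?_, ⟨fun k => ?_⟩⟩
  · exact (twFun n T (-(i : ℤ))).map_isZero ((Scheme.Modules.pullback (KRR.pr n T)).map_isZero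
      ((Scheme.Modules.pushforward (KRR.pr n T)).map_isZero (isZero_iter s i hi)))
  · cases k with
    | zero =>
      rw [ChainComplex.quasiIsoAt₀_iff, ShortComplex.quasiIso_iff_of_zeros']
      · obtain ⟨hex, hep⟩ := s.exact_zero
        refine (ShortComplex.exact_and_epi_g_iff_of_iso ?_).2 ⟨hex, hep⟩
        exact ShortComplex.isoMk (Iso.refl _) (Iso.refl _) (Iso.refl _) (by simp) (by simp)
      · simp
      · simp
      · simp
    | succ k =>
      rw [quasiIsoAt_iff_exactAt']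
      · exact s.exact_succ k
      · exact ChainComplex.exactAt_succ_single_obj _ k

end Groth.Agent.KRRLib.Pn
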