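import Groth.Agent.KRRLib.Pn.PushPr
import Groth.Agent.KRRLib.Pn.Resol
import Groth.Agent.KFlatLib.Perfect.Top

/-!
# Base change for the direct images of regular bundles on projective spaces
-/

set_option autoImplicit false
set_option linter.style.haveILetI false
set_option backward.isDefEq.respectTransparency false
set_option backward.isDefEq.respectTransparency.types false

universe u

open CategoryTheory CategoryTheory.Limits AlgebraicGeometry TopologicalSpace

namespace Groth.Agent.KRRLib.Pn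

open Groth.Agent

variable {n : ℕ} {Y Y₁ : Scheme.{u}} (φ : Y₁ ⟶ Y)

theorem psi_fstZ : KRR.projSpaceMap n φ ≫ fstZ n Y = fstZ n Y₁ := by
  simp only [KRR.projSpaceMap, fstZ]
  exact (pullback.lift_fst _ _ _).trans (Category.comp_id _)

theorem psi_pr : KRR.projSpaceMap n φ ≫ KRR.pr n Y = KRR.pr n Y₁ ≫ φ :=
  pullback.lift_snd _ _ _

theorem exists_twF_psi_iso (d : ℤ) (G : (KRR.PY n Y).Modules) :
    Nonempty ((Scheme.Modules.pullback (KRR.projSpaceMap n φ)).obj (KRR.twF n Y d G) ≅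
      KRR.twF n Y₁ d ((Scheme.Modules.pullback (KRR.projSpaceMap n φ)).obj G)) :=
  ⟨((KFlatLib.pullTensorBiIso (KRR.projSpaceMap n φ)).app (Tw n Y d)).app G ≪≫
    (DCoh.tensorBi.mapIso ((Scheme.Modules.pullbackComp _ _).app _ ≪≫
      (Scheme.Modules.pullbackCongr (psi_fstZ φ)).app _)).app _⟩

/-- `ψ^* pr^* M ≅ pr^* φ^* M`. -/
noncomputable def psiPullIso (M : Y.Modules) :
    (Scheme.Modules.pullback (KRR.pr n Y₁)).obj ((Scheme.Modules.pullback φ).obj M) ≅
      (Scheme.Modules.pullback (KRR.projSpaceMap n φ)).obj ((Scheme.Modules.pullback (KRR.pr n Y)).obj M) :=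
  (Scheme.Modules.pullbackComp (KRR.pr n Y₁) φ).app M ≪≫
    (Scheme.Modules.pullbackCongr (psi_pr φ).symm).app M ≪≫
    ((Scheme.Modules.pullbackComp (KRR.projSpaceMap n φ) (KRR.pr n Y)).app M).symm

theorem exists_twF_psi_pullback_iso (d : ℤ) (M : Y.Modules) :
    Nonempty ((Scheme.Modules.pullback (KRR.projSpaceMap n φ)).obj
        (KRR.twF n Y d ((Scheme.Modules.pullback (KRR.pr n Y)).obj M)) ≅
      KRR.twF n Y₁ d ((Scheme.Modules.pullback (KRR.pr n Y₁)).obj ((Scheme.Modules.pullback φ).obj M))) := by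
  obtain ⟨e⟩ := exists_twF_psi_iso φ d ((Scheme.Modules.pullback (KRR.pr n Y)).obj M)
  exact ⟨e ≪≫ (twFun n Y₁ d).mapIso (psiPullIso φ M).symm⟩

variable [IsNoetherian Y]

theorem isFinLocFree_kernel_eps {F : (KRR.PY n Y).Modules} (hF : FlatMod.IsFinLocFree F)
    (hr : KRR.IsRegSheaf n Y F) : FlatMod.IsFinLocFree (kernel (eps F)) := by
  haveI := epi_counit (QCoh.isQCoh_of_isFinLocFree hF) hr
  exact KFlatLib.isFinLocFree_kernel (eps F)
    (KFlatLib.isFinLocFree_pullback _ (isFinLocFree_push_of_reg n Y hF hr)) hF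

theorem Stage.isFinLocFree_iter (s : Stage n Y) (hs : FlatMod.IsFinLocFree s.G) :
    ∀ k : ℕ, FlatMod.IsFinLocFree (s.iter k).G
  | 0 => hs
  | k + 1 => isFinLocFree_twF 1 (isFinLocFree_kernel_eps (s.isFinLocFree_iter hs k) (s.iter k).isReg)

/-- The pullback of the twisted counit sequence. -/
theorem shortExact_psi_eps {F : (KRR.PY n Y).Modules} (hF : FlatMod.IsFinLocFree F)
    (hr : KRR.IsRegSheaf n Y F) (d : ℤ) :
    (((epsSC F).map (twFun n Y d)).map (Scheme.Modules.pullback (KRR.projSpaceMap n φ))).ShortExact :=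
  pullback_shortExact _ (shortExact_twFun n Y d (shortExact_epsSC (QCoh.isQCoh_of_isFinLocFree hF) hr))
    (isFinLocFree_twF d hF)

/-- The next stage, twisted and pulled back, is the kernel. -/
theorem nonempty_psi_shift (s : Stage n Y) (k : ℕ) (a b : ℤ) (h : a + 1 = b) :
    Nonempty ((((epsSC (s.iter k).G).map (twFun n Y b)).map (Scheme.Modules.pullback (KRR.projSpaceMap n φ))).X₁ ≅
      KRR.twF n Y₁ a ((Scheme.Modules.pullback (KRR.projSpaceMap n φ)).obj (s.iter (k + 1)).G)) := by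
  obtain ⟨e⟩ := nonempty_shift s k a b h
  obtain ⟨e'⟩ := exists_twF_psi_iso φ a (s.iter (k + 1)).G
  exact ⟨(Scheme.Modules.pullback (KRR.projSpaceMap n φ)).mapIso e.symm ≪≫ e'⟩

/-- Pullback keeps bundles regular. -/
theorem reg_psi {F : (KRR.PY n Y).Modules} (hF : FlatMod.IsFinLocFree F) (hr : KRR.IsRegSheaf n Y F) :
    KRR.IsRegSheaf n Y₁ ((Scheme.Modules.pullback (KRR.projSpaceMap n φ)).obj F) := by
  suffices ∀ m i : ℕ, 1 ≤ i → n + 1 ≤ i + m → ∀ s : Stage n Y, FlatMod.IsFinLocFree s.G →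
      IsZero ((R (KRR.pr n Y₁) i).obj
        (KRR.twF n Y₁ (-(i : ℤ)) ((Scheme.Modules.pullback (KRR.projSpaceMap n φ)).obj s.G))) from
    reg_iff.2 fun i hi => this (n + 1) i hi (by omega) ⟨F, QCoh.isQCoh_of_isFinLocFree hF, hr⟩ hF
  intro m
  induction m with
  | zero =>
    intro i _ hni s _
    exact isZero_R_top (isQCoh_twF n Y₁ _ (QCoh.isQCoh_pullback _ s.isQCoh)) i (by omega)
  | succ m ih =>
    intro i hi hni s hs
    rcases Nat.lt_or_ge n i with h' | h'
    · exact isZero_R_top (isQCoh_twF n Y₁ _ (QCoh.isQCoh_pullback _ s.isQCoh)) i (by omega)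
    have hM := QCoh.isQCoh_pushforward (KRR.pr n Y) s.isQCoh
    obtain ⟨e₁⟩ := nonempty_psi_shift φ s 0 (-((i + 1 : ℕ) : ℤ)) (-(i : ℤ)) (by omega)
    obtain ⟨e₂⟩ := exists_twF_psi_pullback_iso (n := n) φ (-(i : ℤ)) ((Scheme.Modules.pushforward (KRR.pr n Y)).obj s.G)
    obtain ⟨e₃⟩ := exists_twF_psi_iso φ (-(i : ℤ)) s.G
    refine isZero_R_iso _ i e₃ (isZero_R_X₃ (KRR.pr n Y₁) (shortExact_psi_eps φ hs s.isReg (-(i : ℤ))) i
      (isZero_R_iso _ i e₂.symm (isZero_R_pullback (by omega) i hi (QCoh.isQCoh_pullback φ hM))) ?_)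
    exact isZero_R_iso _ (i + 1) e₁.symm
      (ih (i + 1) (by omega) (by omega) (s.iter 1) (s.isFinLocFree_iter hs 1))

/-- `R^q pr_* (ψ^* G_k (-(q+1))) = 0` for `q < k`. -/
theorem isZero_R_psi_shift (s : Stage n Y) (hs : FlatMod.IsFinLocFree s.G) :
    ∀ (m q k : ℕ), n ≤ q + m → q + 1 ≤ k →
      IsZero ((R (KRR.pr n Y₁) q).obj
        (KRR.twF n Y₁ (-((q + 1 : ℕ) : ℤ)) ((Scheme.Modules.pullback (KRR.projSpaceMap n φ)).obj (s.iter k).G))) := by
  intro m
  induction m with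
  | zero =>
    intro q k hq hk
    exact isZero_R_of_isZero _ q ((twFun n Y₁ _).map_isZero
      ((Scheme.Modules.pullback (KRR.projSpaceMap n φ)).map_isZero (isZero_iter s k (by omega))))
  | succ m ih =>
    intro q k hq hk
    rcases Nat.lt_or_ge n k with h' | h'
    · exact isZero_R_of_isZero _ q ((twFun n Y₁ _).map_isZero
        ((Scheme.Modules.pullback (KRR.projSpaceMap n φ)).map_isZero (isZero_iter s k h')))
    have hfl := s.isFinLocFree_iter hs k
    have hM := QCoh.isQCoh_pullback φ (QCoh.isQCoh_pushforward (KRR.pr n Y) (s.iter k).isQCoh)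
    obtain ⟨e₁⟩ := nonempty_psi_shift φ s k (-((q + 1 + 1 : ℕ) : ℤ)) (-((q + 1 : ℕ) : ℤ)) (by omega)
    obtain ⟨e₂⟩ := exists_twF_psi_pullback_iso (n := n) φ (-((q + 1 : ℕ) : ℤ))
      ((Scheme.Modules.pushforward (KRR.pr n Y)).obj (s.iter k).G)
    obtain ⟨e₃⟩ := exists_twF_psi_iso φ (-((q + 1 : ℕ) : ℤ)) (s.iter k).G
    refine isZero_R_iso _ q e₃ (isZero_R_X₃ (KRR.pr n Y₁)
      (shortExact_psi_eps φ hfl (s.iter k).isReg (-((q + 1 : ℕ) : ℤ))) q (isZero_R_iso _ q e₂.symm ?_) ?_)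
    · rcases q with _ | q
      · exact isZero_R_twF_congr 0 (by omega) _ (isZero_push_pullback_neg_one (by omega) hM)
      · exact isZero_R_pullback (by omega) (q + 1) (by omega) hM
    · exact isZero_R_iso _ (q + 1) e₁.symm (ih (q + 1) (k + 1) (by omega) (by omega))

/-- **Base change.** -/
theorem isIso_bcMap (hsq : KRR.projSpaceMap n φ ≫ KRR.pr n Y = KRR.pr n Y₁ ≫ φ)
    {F : (KRR.PY n Y).Modules} (hF : FlatMod.IsFinLocFree F) (hr : KRR.IsRegSheaf n Y F) :
    IsIso (KRR.bcMap n φ hsq F) := by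
  let ψ := KRR.projSpaceMap n φ
  let P := (Scheme.Modules.pushforward (KRR.pr n Y)).obj F
  let adj := Scheme.Modules.pullbackPushforwardAdjunction (KRR.pr n Y₁)
  let s : Stage n Y := ⟨F, QCoh.isQCoh_of_isFinLocFree hF, hr⟩
  have hS : ((epsSC F).map (Scheme.Modules.pullback ψ)).ShortExact :=
    pullback_shortExact _ (shortExact_epsSC s.isQCoh hr) hF
  obtain ⟨e⟩ := nonempty_shift s 0 (-1) 0 (by omega)
  obtain ⟨z⟩ := twF_zero n Y (kernel (eps F))
  obtain ⟨e'⟩ := exists_twF_psi_iso φ (-1) (s.iter 1).G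
  let eK : ((epsSC F).map (Scheme.Modules.pullback ψ)).X₁ ≅
      KRR.twF n Y₁ (-1) ((Scheme.Modules.pullback ψ).obj (s.iter 1).G) :=
    (Scheme.Modules.pullback ψ).mapIso (z.symm ≪≫ e.symm) ≪≫ e'
  have h1 : IsZero ((R (KRR.pr n Y₁) 1).obj ((epsSC F).map (Scheme.Modules.pullback ψ)).X₁) :=
    isZero_R_iso _ 1 eK.symm (isZero_R_twF_congr 1 (by omega) _
      (reg_iff.1 (reg_psi φ (s.isFinLocFree_iter hF 1) (s.iter 1).isReg) 1 le_rfl))
  have h0 : IsZero ((R (KRR.pr n Y₁) 0).obj ((epsSC F).map (Scheme.Modules.pullback ψ)).X₁) :=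
    isZero_R_iso _ 0 eK.symm (isZero_R_twF_congr 0 (by omega) _ (isZero_R_psi_shift φ s hF n 0 1 (by omega) le_rfl))
  have h0' : IsZero (((epsSC F).map (Scheme.Modules.pullback ψ)).map (Scheme.Modules.pushforward (KRR.pr n Y₁))).X₁ := by
    obtain ⟨e₀⟩ := QCoh.nonempty_RpushAb_zero_iso (KRR.pr n Y₁) ((epsSC F).map (Scheme.Modules.pullback ψ)).X₁
    haveI : (QCoh.toAbFunctor Y₁).Faithful :=
      inferInstanceAs (SheafOfModules.toSheaf Y₁.ringCatSheaf).Faithful
    have hz := h0.of_iso e₀.symm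
    rw [IsZero.iff_id_eq_zero] at hz ⊢
    exact (QCoh.toAbFunctor Y₁).map_injective
      (((QCoh.toAbFunctor Y₁).map_id _).trans (hz.trans ((QCoh.toAbFunctor Y₁).map_zero _ _).symm))
  haveI : IsIso ((Scheme.Modules.pushforward (KRR.pr n Y₁)).map ((Scheme.Modules.pullback ψ).map (eps F))) :=
    (shortExact_push_of_isZero _ hS h1).isIso_g_iff.2 h0'
  haveI := isIso_unit_pr (n := n) (QCoh.isQCoh_pullback φ (QCoh.isQCoh_pushforward (KRR.pr n Y) s.isQCoh))
  show IsIso ((adj.homEquiv _ _) _)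
  rw [adj.homEquiv_unit, Functor.map_comp, Functor.map_comp, Functor.map_comp]
  infer_instance

end Groth.Agent.KRRLib.Pn
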