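import Groth.Agent.KRRLib.Pn.RegVan
import Groth.Agent.KFlatLib.Scheme.Exact
import Groth.Agent.KFlatLib.Perfect.Spread
import Groth.Agent.InvX.Tensor

/-!
# The sequence `0 ⟶ F ⟶ F(1)^{n+1} ⟶ Q ⊗ F ⟶ 0`
-/

set_option autoImplicit false
set_option linter.style.haveILetI false
set_option backward.isDefEq.respectTransparency false
set_option backward.isDefEq.respectTransparency.types false

universe u

open CategoryTheory CategoryTheory.Limits AlgebraicGeometry TopologicalSpace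

namespace Groth.Agent.KRRLib.Pn

open Groth.Agent

variable (n : ℕ) (T : Scheme.{u})

/-- `O(1)^{n+1}`. -/
noncomputable abbrev eB : (KRR.PY n T).Modules := ∐ fun _ : ULift.{u} (Fin (n + 1)) => Tw n T 1

/-- The projection to a summand. -/
noncomputable def piB (j : ULift.{u} (Fin (n + 1))) : eB n T ⟶ Tw n T 1 :=
  Sigma.desc fun i => if i = j then 𝟙 _ else 0

/-- `O ≅ O(1 - 1)`. -/
noncomputable def cIso : Coh.structureModule (KRR.PY n T) ≅ Tw n T (1 - 1) :=
  (exists_Tw_zero n T).some.symm ≪≫ eqToIso (congrArg (Tw n T) (sub_self (1 : ℤ)).symm)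

/-- Multiplication by the coordinates. -/
noncomputable def eS : Coh.structureModule (KRR.PY n T) ⟶ eB n T :=
  ∑ j : ULift.{u} (Fin (n + 1)), ((cIso n T).hom ≫ xTw n T j 1) ≫
    Sigma.ι (fun _ : ULift.{u} (Fin (n + 1)) => Tw n T 1) j

theorem eS_piB (j : ULift.{u} (Fin (n + 1))) : eS n T ≫ piB n T j = (cIso n T).hom ≫ xTw n T j 1 := by
  rw [eS, Preadditive.sum_comp, Finset.sum_eq_single j]
  · rw [Category.assoc]
    simp [piB]
  · intro i _ hij
    rw [Category.assoc]
    simp [piB, hij]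
  · simp

/-- The quotient. -/
noncomputable abbrev eQ : (KRR.PY n T).Modules := cokernel (eS n T)

/-- The sequence `0 ⟶ O ⟶ O(1)^{n+1} ⟶ Q ⟶ 0`. -/
noncomputable abbrev eSC : ShortComplex (KRR.PY n T).Modules :=
  ShortComplex.mk (eS n T) (cokernel.π _) (cokernel.condition _)

theorem exists_retraction (y : KRR.PY n T) :
    ∃ r : (DerSch.stalkFunctor (KRR.PY n T) y).obj (eB n T) ⟶
        (DerSch.stalkFunctor (KRR.PY n T) y).obj (Coh.structureModule (KRR.PY n T)),
      (DerSch.stalkFunctor (KRR.PY n T) y).map (eS n T) ≫ r = 𝟙 _ := by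
  obtain ⟨j, hj⟩ := Opens.mem_iSup.1 ((iSup_chart n T).ge (trivial : y ∈ (⊤ : (KRR.PY n T).Opens)))
  haveI := isIso_stalk_xTw n T hj 1
  let ε := (DerSch.stalkFunctor (KRR.PY n T) y).map ((cIso n T).hom ≫ xTw n T j 1)
  haveI : IsIso ε := by
    show IsIso ((DerSch.stalkFunctor (KRR.PY n T) y).map ((cIso n T).hom ≫ xTw n T j 1))
    haveI : IsIso ((DerSch.stalkFunctor (KRR.PY n T) y).map (cIso n T).hom) :=
      ((DerSch.stalkFunctor (KRR.PY n T) y).mapIso (cIso n T)).isIso_hom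
    rw [Functor.map_comp]
    exact IsIso.comp_isIso' inferInstance (isIso_stalk_xTw n T hj 1)
  refine ⟨(DerSch.stalkFunctor (KRR.PY n T) y).map (piB n T j) ≫ inv ε, ?_⟩
  rw [← Category.assoc, ← Functor.map_comp, eS_piB]
  exact IsIso.hom_inv_id ε

theorem shortExact_eSC : (eSC n T).ShortExact := by
  have hex : (eSC n T).Exact :=
    ShortComplex.exact_of_g_is_cokernel _ (cokernelIsCokernel (eS n T))
  rw [KFlatLib.shortExact_iff_stalk]
  intro y
  obtain ⟨r, hr⟩ := exists_retraction n T y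
  haveI : Mono ((eSC n T).map (DerSch.stalkFunctor (KRR.PY n T) y)).f :=
    (IsSplitMono.mk' ⟨r, hr⟩ : IsSplitMono _).mono
  haveI : Epi (eSC n T).g := inferInstanceAs (Epi (cokernel.π _))
  exact ShortComplex.ShortExact.mk' ((KFlatLib.exact_iff_stalk _).1 hex y) inferInstance
    (inferInstanceAs (Epi ((DerSch.stalkFunctor (KRR.PY n T) y).map (eSC n T).g)))

theorem isFinLocFree_eB : FlatMod.IsFinLocFree (eB n T) :=
  KFlatLib.isFinLocFree_sigma_aux _ _ Finset.univ rfl (fun i hi => absurd (Finset.mem_univ i) hi)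
    (fun _ => isFinLocFree_of_isInvertible (isInvertible_Tw n T 1)) inferInstance

theorem isFlat_eQ : FlatMod.IsFlat (eQ n T) := by
  intro y
  obtain ⟨r, hr⟩ := exists_retraction n T y
  have hS := (KFlatLib.shortExact_iff_stalk _).1 (shortExact_eSC n T) y
  let σ := ShortComplex.Splitting.ofExactOfRetraction _ hS.exact r hr hS.epi_g
  haveI : Module.Flat ((KRR.PY n T).presheaf.stalk y)
      ((DerSch.stalkFunctor (KRR.PY n T) y).obj (eB n T) : Type u) :=
    (QCoh.isFlat_and_isFP_iff.2 (isFinLocFree_eB n T)).1 y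
  show Module.Flat ((KRR.PY n T).presheaf.stalk y) ((DerSch.stalkFunctor (KRR.PY n T) y).obj (eQ n T) : Type u)
  exact @Module.Flat.of_retract ((KRR.PY n T).presheaf.stalk y) ((DerSch.stalkFunctor (KRR.PY n T) y).obj (eB n T))
    ((DerSch.stalkFunctor (KRR.PY n T) y).obj (eQ n T)) _ _ _ _ _ ‹_› σ.s.hom ((DerSch.stalkFunctor (KRR.PY n T) y).map (cokernel.π (eS n T))).hom
    (congrArg ModuleCat.Hom.hom σ.s_g)

theorem isFinLocFree_structure' : FlatMod.IsFinLocFree (Coh.structureModule (KRR.PY n T)) :=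
  isFinLocFree_of_isInvertible (InvX.isInvertible_structureModule)

theorem isFinLocFree_eQ : FlatMod.IsFinLocFree (eQ n T) :=
  KFlatLib.isFinLocFree_cokernel _ (isFinLocFree_structure' n T) (isFinLocFree_eB n T) (isFlat_eQ n T)

variable {n T}

/-- `- ⊗ F`. -/
noncomputable abbrev tR (F : (KRR.PY n T).Modules) : (KRR.PY n T).Modules ⥤ (KRR.PY n T).Modules :=
  (DCoh.tensorBi (X := KRR.PY n T)).flip.obj F

theorem shortExact_eSC_tensor {F : (KRR.PY n T).Modules} (hF : FlatMod.IsFinLocFree F) :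
    ((eSC n T).map (tR F)).ShortExact :=
  KFlatLib.flatObj_of_isFlat (QCoh.isFlat_and_isFP_iff.2 hF).1 _ (shortExact_eSC n T)

theorem nonempty_structure_tensor (F : (KRR.PY n T).Modules) :
    Nonempty ((tR F).obj (Coh.structureModule (KRR.PY n T)) ≅ F) :=
  ⟨KFlatLib.structureTensorIso F⟩

theorem reg_eB_tensor {F : (KRR.PY n T).Modules} (h : KRR.IsRegSheaf n T (KRR.twF n T 1 F)) :
    KRR.IsRegSheaf n T ((tR F).obj (eB n T)) := by
  refine reg_iff.2 fun i hi => ?_
  haveI : PreservesColimitsOfShape (Discrete (ULift.{u} (Fin (n + 1)))) (tR F ⋙ twFun n T (-(i : ℤ))) :=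
    comp_preservesColimitsOfShape _ _
  exact isZero_R_iso _ i (PreservesCoproduct.iso (tR F ⋙ twFun n T (-(i : ℤ))) _).symm
    (isZero_R_coprod _ i _ fun _ => reg_iff.1 h i hi)

theorem nonempty_twF_tensor (k : ℤ) (M F : (KRR.PY n T).Modules) :
    Nonempty (KRR.twF n T k ((tR F).obj M) ≅ (tR (KRR.twF n T k F)).obj M) := by
  let t := DCoh.tensorBi (X := KRR.PY n T)
  let a : ∀ A B C : (KRR.PY n T).Modules, (t.obj ((t.obj A).obj B)).obj C ≅ (t.obj A).obj ((t.obj B).obj C) :=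
    fun A B C => (((KFlatLib.tensorAssocSch (KRR.PY n T)).app A).app B).app C
  let c : (t.obj (Tw n T k)).obj M ≅ (t.obj M).obj (Tw n T k) :=
    (((KFlatLib.tensorBiFlipIso (KRR.PY n T)).app M).app (Tw n T k))
  exact ⟨(a (Tw n T k) M F).symm ≪≫ (t.mapIso c).app F ≪≫ a M (Tw n T k) F⟩

theorem reg_eQ_tensor {F : (KRR.PY n T).Modules} (hF : FlatMod.IsFinLocFree F)
    (h : KRR.IsRegSheaf n T (KRR.twF n T 1 F)) : KRR.IsRegSheaf n T ((tR F).obj (eQ n T)) := by
  obtain ⟨e⟩ := nonempty_structure_tensor F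
  have h2 : KRR.IsRegSheaf n T ((eSC n T).map (tR F)).X₂ := by
    rw [ShortComplex.map_X₂]
    exact reg_eB_tensor h
  have h1 : KRR.IsRegSheaf n T (KRR.twF n T 1 ((eSC n T).map (tR F)).X₁) := by
    rw [ShortComplex.map_X₁]
    exact reg_iso ((twFun n T 1).mapIso e).symm h
  exact reg_X₃ (S := (eSC n T).map (tR F)) (shortExact_eSC_tensor hF) h2 h1

end Groth.Agent.KRRLib.Pn
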