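import Groth.Agent.KRRLib.Pn.Ratio
import Groth.Agent.AmpleX.BaseChange
import Groth.Agent.AModX.Res

/-!
# Extending sections from a chart after twisting
-/

set_option autoImplicit false
set_option backward.isDefEq.respectTransparency false
set_option backward.isDefEq.respectTransparency.types false

universe u

open CategoryTheory CategoryTheory.Limits AlgebraicGeometry TopologicalSpace Opposite

namespace Groth.Agent.KRRLib.Pn

open Groth.Agent Groth.Agent.PnCoh.Finite Groth.Agent.AModX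

variable (n : ℕ) (T : Scheme.{u})

theorem isAffineOpen_D (i : ULift.{u} (Fin (n + 1))) : IsAffineOpen (D (gr.{u} n) (coord n i)) :=
  Proj.isAffineOpen_basicOpen _ _ (coord_mem n i) one_pos

theorem isAffineOpen_D_inf (i k : ULift.{u} (Fin (n + 1))) :
    IsAffineOpen (D (gr.{u} n) (coord n i) ⊓ D (gr.{u} n) (coord n k)) := by
  rw [← basicOpen_ratio (coord_mem n i) (coord_mem n k)]
  exact (isAffineOpen_D n i).basicOpen _

/-- The part of a chart over an open of the base. -/
noncomputable def piece (V : T.Opens) (i : ULift.{u} (Fin (n + 1))) : (KRR.PY n T).Opens :=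
  KRR.pr n T ⁻¹ᵁ V ⊓ chart n T i

theorem isAffineOpen_preimage_inf {A : (Proj (gr.{u} n)).Opens} (hA : IsAffineOpen A) {V : T.Opens}
    (hV : IsAffineOpen V) : IsAffineOpen (fstZ n T ⁻¹ᵁ A ⊓ KRR.pr n T ⁻¹ᵁ V) :=
  AmpleX.isAffineOpen_fst_inf_snd _ _ (isAffineOpen_top _) hA hV (fun _ _ => trivial) (fun _ _ => trivial)

theorem isAffineOpen_piece {V : T.Opens} (hV : IsAffineOpen V) (i : ULift.{u} (Fin (n + 1))) :
    IsAffineOpen (piece n T V i) := by
  rw [piece, inf_comm]
  exact isAffineOpen_preimage_inf n T (isAffineOpen_D n i) hV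

theorem isAffineOpen_piece_inf {V : T.Opens} (hV : IsAffineOpen V) (i k : ULift.{u} (Fin (n + 1))) :
    IsAffineOpen (piece n T V i ⊓ piece n T V k) := by
  have h : piece n T V i ⊓ piece n T V k =
      fstZ n T ⁻¹ᵁ (D (gr.{u} n) (coord n i) ⊓ D (gr.{u} n) (coord n k)) ⊓ KRR.pr n T ⁻¹ᵁ V := by
    show (_ ⊓ chart n T i) ⊓ (_ ⊓ chart n T k) = (chart n T i ⊓ chart n T k) ⊓ _
    rw [inf_inf_inf_comm, inf_idem, inf_comm]
  rw [h]
  exact isAffineOpen_preimage_inf n T (isAffineOpen_D_inf n i k) hV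

/-- A nonnegative twist. -/
noncomputable abbrev G (F : (KRR.PY n T).Modules) (e : ℕ) : (KRR.PY n T).Modules := KRR.twF n T (e : ℤ) F

variable (F : (KRR.PY n T).Modules)

/-- Multiplication by a coordinate between two twists. -/
noncomputable def stepTo (j : ULift.{u} (Fin (n + 1))) (a d : ℤ) (h : d - 1 = a) :
    KRR.twF n T a F ⟶ KRR.twF n T d F := h ▸ xF n T F j d

theorem bijective_stepTo {j : ULift.{u} (Fin (n + 1))} {W : (KRR.PY n T).Opens} (hW : W ≤ chart n T j)
    (a d : ℤ) (h : d - 1 = a) : Function.Bijective ((stepTo n T F j a d h).app W) := by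
  subst h
  exact TopCat.Presheaf.app_bijective_of_stalkFunctor_map_bijective
    ((QCoh.toAbFunctor _).map (xF n T F j d)) W fun y hy => bijective_xF n T F (hW hy) d

theorem stepTo_rho {i : ULift.{u} (Fin (n + 1))} (j : ULift.{u} (Fin (n + 1))) {W : (KRR.PY n T).Opens}
    (hW : W ≤ chart n T i) (a d : ℤ) (h : d - 1 = a) (s : Γ(KRR.twF n T a F, W)) :
    (stepTo n T F j a d h).app W s = resR hW (rho n T i j) • (stepTo n T F i a d h).app W s := by
  subst h
  exact xF_app_rho n T F j hW d s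

/-- Multiplication by a power of a coordinate. -/
noncomputable def spow (j : ULift.{u} (Fin (n + 1))) (e : ℕ) : ∀ r : ℕ, G n T F e ⟶ G n T F (e + r)
  | 0 => 𝟙 _
  | r + 1 => spow j e r ≫ stepTo n T F j ((e + r : ℕ) : ℤ) ((e + (r + 1) : ℕ) : ℤ) (by omega)

theorem spow_rho {i : ULift.{u} (Fin (n + 1))} (j : ULift.{u} (Fin (n + 1))) {W : (KRR.PY n T).Opens}
    (hW : W ≤ chart n T i) (e : ℕ) : ∀ (r : ℕ) (s : Γ(G n T F e, W)),
    (spow n T F j e r).app W s = resR hW (rho n T i j) ^ r • (spow n T F i e r).app W s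
  | 0, s => by
    rw [pow_zero, one_smul]
    simp only [spow]
  | r + 1, s => by
    simp only [spow, Scheme.Modules.Hom.comp_app, ConcreteCategory.comp_apply]
    rw [spow_rho j hW e r s, Scheme.Modules.Hom.app_smul, stepTo_rho n T F j hW, ← mul_smul, ← pow_succ]

theorem bijective_spow {j : ULift.{u} (Fin (n + 1))} {W : (KRR.PY n T).Opens} (hW : W ≤ chart n T j) (e r : ℕ) :
    Function.Bijective ((spow n T F j e r).app W) := by
  induction r with
  | zero =>
    simp only [spow, Scheme.Modules.Hom.id_app]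
    exact Function.bijective_id
  | succ r ih =>
    simp only [spow, Scheme.Modules.Hom.comp_app, ConcreteCategory.comp_apply]
    exact Function.Bijective.comp (g := ⇑((stepTo n T F j _ _ _).app W)) (bijective_stepTo n T F hW _ _ _) ih

variable {F}

/-- A section on a chart extends to the preimage of an affine open after twisting. -/
theorem exists_extend (hF : ∀ e, Coh.IsQCoh (G n T F e)) {V : T.Opens} (hV : IsAffineOpen V)
    (j : ULift.{u} (Fin (n + 1))) (s : Γ(G n T F 0, piece n T V j)) :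
    ∃ (N r : ℕ) (σ : Γ(G n T F (0 + N + r), KRR.pr n T ⁻¹ᵁ V)),
      res _ (inf_le_left : piece n T V j ≤ _) σ =
        (spow n T F j (0 + N) r).app _ ((spow n T F j 0 N).app _ s) := by
  classical
  let A := piece n T V
  have hA : ∀ i, A i ≤ chart n T i := fun i => inf_le_right
  let g : ∀ i, Γ(KRR.PY n T, A i) := fun i => resR (hA i) (rho n T i j)
  have hbg : ∀ i, (KRR.PY n T).basicOpen (g i) = A i ⊓ A j := fun i => by
    refine (QCoh.basicOpen_res_inf _ _).trans ?_
    rw [basicOpen_rho]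
    show A i ⊓ (_ ⊓ _) = (_ ⊓ _) ⊓ (_ ⊓ _)
    refine le_antisymm (le_inf inf_le_left (le_inf (inf_le_left.trans inf_le_left) (inf_le_right.trans inf_le_right)))
      (le_inf inf_le_left (le_inf (inf_le_left.trans inf_le_right) (inf_le_right.trans inf_le_right)))
  have key : ∀ i, ∃ m, ∀ N, m ≤ N → ∃ t : Γ(G n T F 0, A i),
      res _ (inf_le_left : A i ⊓ A j ≤ A i) t =
        resR (inf_le_left : A i ⊓ A j ≤ A i) (g i) ^ N • res _ (inf_le_right : A i ⊓ A j ≤ A j) s := by
    intro i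
    have gen : ∀ (W : (KRR.PY n T).Opens) (_ : (KRR.PY n T).basicOpen (g i) = W) (h : W ≤ A i)
        (s' : Γ(G n T F 0, W)), ∃ (m : ℕ) (t : Γ(G n T F 0, A i)), res _ h t = resR h (g i) ^ m • s' := by
      rintro _ rfl h s'
      exact QCoh.exists_pow_smul_eq_map (hF 0) (isAffineOpen_piece n T hV i) _ s'
    obtain ⟨m, t, ht⟩ := gen _ (hbg i) inf_le_left (res _ (inf_le_right : A i ⊓ A j ≤ A j) s)
    refine ⟨m, fun N hN => ⟨g i ^ (N - m) • t, ?_⟩⟩
    rw [res_smul, map_pow, ht, ← mul_smul, ← pow_add, Nat.sub_add_cancel hN]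
  choose m hm using key
  let N := Finset.univ.sup m
  choose t ht using fun i => hm i N (Finset.le_sup (Finset.mem_univ i))
  obtain ⟨u, hu'⟩ : ∃ u : ∀ i, Γ(G n T F (0 + N), A i), ∀ i, u i = (spow n T F i 0 N).app _ (t i) :=
    ⟨_, fun _ => rfl⟩
  have hu : ∀ i, res _ (inf_le_left : A i ⊓ A j ≤ A i) (u i) =
      res _ (inf_le_right : A i ⊓ A j ≤ A j) ((spow n T F j 0 N).app _ s) := fun i => by
    rw [hu' i, ← app_res, ← app_res, ht i, Scheme.Modules.Hom.app_smul,
      spow_rho n T F j (inf_le_left.trans (hA i)) 0 N (res _ (inf_le_right : A i ⊓ A j ≤ A j) s)]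
    exact congrArg (· ^ N • _) (resR_resR _ _ _)
  have hd : ∀ p : ULift.{u} (Fin (n + 1)) × ULift.{u} (Fin (n + 1)), ∃ r : ℕ,
      resR (inf_le_left : A p.1 ⊓ A p.2 ≤ A p.1) (g p.1) ^ r •
        (res _ (inf_le_left : A p.1 ⊓ A p.2 ≤ A p.1) (u p.1) - res _ inf_le_right (u p.2)) = 0 := by
    rintro ⟨i, k⟩
    refine QCoh.exists_pow_smul_eq_zero (hF _) (isAffineOpen_piece_inf n T hV i k) _ _ ?_
    set W := (KRR.PY n T).basicOpen (resR (inf_le_left : A i ⊓ A k ≤ A i) (g i))
    have hW : W ≤ A i ⊓ A k := (KRR.PY n T).basicOpen_le _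
    have hWj : W ≤ A j := ((QCoh.basicOpen_res_inf _ _).le.trans inf_le_right).trans ((hbg i).le.trans inf_le_right)
    show res _ hW _ = 0
    rw [map_sub, sub_eq_zero, res_res, res_res,
      ← res_res (inf_le_left : A i ⊓ A j ≤ A i) (le_inf (hW.trans inf_le_left) hWj), hu i, res_res,
      ← res_res (inf_le_left : A k ⊓ A j ≤ A k) (le_inf (hW.trans inf_le_right) hWj) (u k), hu k, res_res]
  choose r hr using hd
  let R := Finset.univ.sup r
  obtain ⟨σ, hσ, -⟩ := existsUnique_glue (M := G n T F (0 + N + R)) A (fun i => inf_le_left)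
    (fun p hp => by
      obtain ⟨i, hi⟩ := Opens.mem_iSup.1 ((iSup_chart n T).ge (trivial : p ∈ (⊤ : (KRR.PY n T).Opens)))
      exact ⟨i, hp, hi⟩)
    (fun i => (spow n T F j (0 + N) R).app _ (u i))
    (fun i k => by
      rw [← app_res, ← app_res, ← sub_eq_zero, ← map_sub,
        spow_rho n T F j (inf_le_left.trans (hA i)) (0 + N) R, ← Scheme.Modules.Hom.app_smul]
      obtain ⟨d, hd⟩ := Nat.exists_eq_add_of_le (Finset.le_sup (f := r) (Finset.mem_univ (i, k)))
      rw [show R = r (i, k) + d from hd, add_comm (r (i, k)) d, pow_add, mul_smul]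
      have h0 := hr (i, k)
      rw [show resR (inf_le_left.trans (hA i) : A i ⊓ A k ≤ chart n T i) (rho n T i j) =
        resR (inf_le_left : A i ⊓ A k ≤ A i) (g i) from (resR_resR _ _ _).symm]
      erw [h0]
      rw [smul_zero, map_zero])
  refine ⟨N, R, σ, ?_⟩
  refine (hσ j).trans ?_
  refine congrArg ((spow n T F j (0 + N) R).app (A j)) ?_
  refine eq_of_locally _ _ fun p hp => ⟨A j ⊓ A j, inf_le_left, ⟨hp, hp⟩, ?_⟩
  exact hu j

end Groth.Agent.KRRLib.Pn
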