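import Groth.Agent.KRRLib.Pn.RpushLES
import Groth.Agent.QcqsColim.Rpush
import Groth.Agent.SiteBase.ModColim
import Groth.Agent.KFlatLib.Mate
import Groth.Agent.KFlatLib.Scheme.PullTensorCx
import Groth.Agent.KFlatLib.Scheme.Flatness
import Groth.Agent.KFlatLib.Scheme.TensorAssoc
import Groth.Agent.PnCoh.Unit
import Groth.Agent.AModX.Res
import Groth.Agent.InvX.Tensor
import Groth.Agent.QCoh.Tilde
import Mathlib.CategoryTheory.Limits.Constructions.Filtered

/-!
# Generalities on direct images and free modules over affine schemes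
-/

set_option autoImplicit false
set_option backward.isDefEq.respectTransparency false
set_option backward.isDefEq.respectTransparency.types false

universe u

open CategoryTheory CategoryTheory.Limits AlgebraicGeometry TopologicalSpace

namespace Groth.Agent.KRRLib.Pn

open Groth.Agent Groth.Agent.AModX

section Colimit

variable {A B : Type*} [Category.{u} A] [Category.{u} B] [Preadditive A] [Preadditive B]
  [HasFiniteBiproducts A]

theorem isIso_app_finite_coprod {P Q : A ⥤ B} [P.Additive] [Q.Additive] (η : P ⟶ Q) {ι : Type} [Finite ι]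
    (G : ι → A) [HasCoproduct G] (h : ∀ j, IsIso (η.app (G j))) : IsIso (η.app (∐ G)) := by
  classical
  cases nonempty_fintype ι
  let e := biproduct.isoCoproduct G
  refine ⟨⟨∑ j, Q.map (e.inv ≫ biproduct.π G j) ≫ inv (η.app (G j)) ≫ P.map (biproduct.ι G j ≫ e.hom), ?_, ?_⟩⟩
  · rw [Preadditive.comp_sum]
    have : ∀ j, η.app (∐ G) ≫ Q.map (e.inv ≫ biproduct.π G j) ≫ inv (η.app (G j)) ≫
        P.map (biproduct.ι G j ≫ e.hom) = P.map (e.inv ≫ biproduct.π G j ≫ biproduct.ι G j ≫ e.hom) := fun j => by
      rw [← Category.assoc (η.app (∐ G)), ← η.naturality, Category.assoc, IsIso.hom_inv_id_assoc, ← P.map_comp]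
      simp only [Category.assoc]
    rw [Finset.sum_congr rfl fun j _ => this j, ← P.map_sum, ← Preadditive.comp_sum]
    simp only [← Category.assoc (biproduct.π G _), ← Preadditive.sum_comp, biproduct.total]
    simp
  · rw [Preadditive.sum_comp]
    have : ∀ j, (Q.map (e.inv ≫ biproduct.π G j) ≫ inv (η.app (G j)) ≫ P.map (biproduct.ι G j ≫ e.hom)) ≫
        η.app (∐ G) = Q.map (e.inv ≫ biproduct.π G j ≫ biproduct.ι G j ≫ e.hom) := fun j => by
      rw [Category.assoc, Category.assoc, η.naturality, IsIso.inv_hom_id_assoc, ← Q.map_comp]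
      simp only [Category.assoc]
    rw [Finset.sum_congr rfl fun j _ => this j, ← Q.map_sum, ← Preadditive.comp_sum]
    simp only [← Category.assoc (biproduct.π G _), ← Preadditive.sum_comp, biproduct.total]
    simp

/-- A transformation of additive functors commuting with filtered colimits is invertible at a coproduct as soon as
it is at every member. -/
theorem isIso_app_coprod {P Q : A ⥤ B} [P.Additive] [Q.Additive] (η : P ⟶ Q) {ι : Type u} (G : ι → A)
    [HasColimits A] [PreservesColimitsOfShape (Finset (Discrete ι)) P]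
    [PreservesColimitsOfShape (Finset (Discrete ι)) Q] (h : ∀ j, IsIso (η.app (G j))) :
    IsIso (η.app (∐ G)) := by
  classical
  let L := CoproductsFromFiniteFiltered.liftToFinsetObj (Discrete.functor G)
  haveI hS : ∀ S, IsIso (η.app (L.obj S)) := fun S => by
    let e := Fintype.equivFin (↥S)
    haveI : IsIso (η.app (∐ fun k : Fin (Fintype.card ↥S) => G ((e.symm k).1.as))) :=
      isIso_app_finite_coprod η (fun k : Fin (Fintype.card ↥S) => G ((e.symm k).1.as)) fun k => h _
    exact (NatTrans.isIso_app_iff_of_iso η (Sigma.reindex e.symm fun x : ↥S => G x.1.as)).1 this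
  haveI : IsIso (η.app (colimit L)) := by
    let cP := isColimitOfPreserves P (colimit.isColimit L)
    let cQ := isColimitOfPreserves Q (colimit.isColimit L)
    haveI : IsIso (Functor.whiskerLeft L η) := @NatIso.isIso_of_isIso_app _ _ _ _ _ _ (Functor.whiskerLeft L η) hS
    have he : η.app (colimit L) = (IsColimit.coconePointsIsoOfNatIso cP cQ (asIso (Functor.whiskerLeft L η))).hom :=
      cP.hom_ext fun S => by
        rw [IsColimit.comp_coconePointsIsoOfNatIso_hom]
        exact η.naturality (colimit.ι L S)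
    rw [he]
    infer_instance
  let e' : colimit L ≅ ∐ G := IsColimit.coconePointUniqueUpToIso
    (CoproductsFromFiniteFiltered.liftToFinsetColimitCocone (Discrete.functor G)).isColimit (colimit.isColimit _)
  exact (NatTrans.isIso_app_iff_of_iso η e').1 this

omit [HasFiniteBiproducts A] in
theorem isZero_of_isIso_zero {P Q : A ⥤ B} {M : A} (h : IsIso ((0 : P ⟶ Q).app M)) : IsZero (P.obj M) := by
  haveI := h
  rw [IsZero.iff_id_eq_zero, ← IsIso.hom_inv_id ((0 : P ⟶ Q).app M)]
  exact zero_comp

/-- An additive functor commuting with filtered colimits kills a coproduct as soon as it kills every member. -/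
theorem isZero_coprod (P : A ⥤ B) [P.Additive] {ι : Type u} (G : ι → A) [HasColimits A]
    [PreservesColimitsOfShape (Finset (Discrete ι)) P] (h : ∀ j, IsZero (P.obj (G j))) : IsZero (P.obj (∐ G)) :=
  isZero_of_isIso_zero (isIso_app_coprod (0 : P ⟶ P) G fun j => ⟨⟨0, (h j).eq_of_src _ _, (h j).eq_of_src _ _⟩⟩)

end Colimit

section Sheaves

variable {X Y : Scheme.{u}} (f : X ⟶ Y)

theorem preservesColimits_toAbFunctor (X : Scheme.{u}) : PreservesColimitsOfSize.{u, u} (QCoh.toAbFunctor X) :=
  SiteBase.preservesColimitsOfSize_toSheaf X.ringCatSheaf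

theorem preservesFiltered_R [QuasiCompact f] [QuasiSeparated f] (i : ℕ) (Λ : Type u) [SmallCategory Λ]
    [IsFiltered Λ] : PreservesColimitsOfShape Λ (R f i) := by
  haveI := QcqsColim.preservesColimitsOfShape_RpushAb f i Λ
  haveI := preservesColimits_toAbFunctor X
  exact comp_preservesColimitsOfShape _ _

theorem isZero_R_coprod [QuasiCompact f] [QuasiSeparated f] (i : ℕ) {ι : Type u} (G : ι → X.Modules)
    (h : ∀ j, IsZero ((R f i).obj (G j))) : IsZero ((R f i).obj (∐ G)) := by
  classical
  haveI := preservesFiltered_R f i (Finset (Discrete ι))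
  haveI : HasFiniteBiproducts X.Modules := HasFiniteBiproducts.of_hasFiniteProducts
  exact isZero_coprod (R f i) G h

theorem preservesFiltered_pushforward [QuasiCompact f] [QuasiSeparated f] (Λ : Type u) [SmallCategory Λ]
    [IsFiltered Λ] : PreservesColimitsOfShape Λ (Scheme.Modules.pushforward f) := by
  haveI := QCoh.preservesFiniteLimits_pushAb f
  haveI := preservesFiltered_R f 0 Λ
  haveI := preservesColimits_toAbFunctor Y
  haveI : PreservesColimitsOfShape Λ (Scheme.Modules.pushforward f ⋙ QCoh.toAbFunctor Y) :=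
    preservesColimitsOfShape_of_natIso (Functor.isoWhiskerLeft (QCoh.toAbFunctor X)
      (Coh.pushAb f).rightDerivedZeroIsoSelf)
  haveI : (QCoh.toAbFunctor Y).ReflectsIsomorphisms :=
    inferInstanceAs (SheafOfModules.toSheaf Y.ringCatSheaf).ReflectsIsomorphisms
  haveI : ReflectsColimitsOfShape Λ (QCoh.toAbFunctor Y) := reflectsColimitsOfShape_of_reflectsIsomorphisms
  exact preservesColimitsOfShape_of_reflects_of_preserves (Scheme.Modules.pushforward f) (QCoh.toAbFunctor Y)

/-- Tensoring by an invertible module is an equivalence. -/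
theorem isEquivalence_tensor {L L' : X.Modules}
    (e : ((DCoh.tensorBi (X := X)).obj L).obj L' ≅ Coh.structureModule X)
    (e' : ((DCoh.tensorBi (X := X)).obj L').obj L ≅ Coh.structureModule X) :
    ((DCoh.tensorBi (X := X)).obj L).IsEquivalence := by
  let u : (DCoh.tensorBi (X := X)).obj (Coh.structureModule X) ≅ 𝟭 _ :=
    ((KFlatLib.tensorBiFlipIso X).app (Coh.structureModule X)).symm ≪≫ KFlatLib.tensorStructureIso X
  exact (CategoryTheory.Equivalence.mk ((DCoh.tensorBi (X := X)).obj L) ((DCoh.tensorBi (X := X)).obj L')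
    (u.symm ≪≫ (DCoh.tensorBi.mapIso e').symm ≪≫ ((KFlatLib.tensorAssocSch X).app L').app L)
    ((((KFlatLib.tensorAssocSch X).app L).app L').symm ≪≫ DCoh.tensorBi.mapIso e ≪≫ u)).isEquivalence_functor

/-- The projection formula for an invertible module. -/
theorem nonempty_push_tensor_iso (L : Y.Modules) [((DCoh.tensorBi (X := Y)).obj L).IsEquivalence]
    [((DCoh.tensorBi (X := X)).obj ((Scheme.Modules.pullback f).obj L)).IsEquivalence] (M : X.Modules) :
    Nonempty ((Scheme.Modules.pushforward f).obj
        (((DCoh.tensorBi (X := X)).obj ((Scheme.Modules.pullback f).obj L)).obj M) ≅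
      ((DCoh.tensorBi (X := Y)).obj L).obj ((Scheme.Modules.pushforward f).obj M)) := by
  have h := KFlatLib.isIso_mate (Scheme.Modules.pullbackPushforwardAdjunction f)
    ((KFlatLib.pullTensorBiIso f).app L) M
  exact ⟨(@asIso _ _ _ _ _ h).symm⟩

variable [IsAffine X] {M Q : X.Modules}

/-- A map out of a quasi-coherent module on an affine scheme vanishes if it kills all global sections. -/
theorem eq_zero_of_app_top (hM : Coh.IsQCoh M) (c : M ⟶ Q)
    (h : ∀ t : Γ(M, ⊤), c.app ⊤ t = 0) : c = 0 := by
  apply Scheme.Modules.hom_ext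
  intro W
  ext s
  refine AModX.eq_of_locally _ _ fun p hp => ?_
  obtain ⟨g, hgle, hpg⟩ := (isAffineOpen_top X).exists_basicOpen_le (V := W) ⟨p, hp⟩ trivial
  refine ⟨X.basicOpen g, hgle, hpg, ?_⟩
  show res _ hgle (c.app W s) = res _ hgle 0
  rw [← app_res, map_zero]
  obtain ⟨m, t, ht⟩ := QCoh.exists_pow_smul_eq_map hM (isAffineOpen_top X) g (res _ hgle s)
  have h3 : c.app _ (res M (X.basicOpen_le g) t) =
      resR (X.basicOpen_le g) g ^ m • c.app _ (res M hgle s) :=
    (congrArg (c.app (X.basicOpen g)) ht).trans (Scheme.Modules.Hom.app_smul _ _ _)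
  rw [app_res, h t, map_zero] at h3
  exact ((isUnit_resR (X.basicOpen_le g) g le_rfl).pow m).smul_eq_zero.1 h3.symm

theorem isZero_of_subsingleton_top (hM : Coh.IsQCoh M) [Subsingleton Γ(M, ⊤)] : IsZero M :=
  (IsZero.iff_id_eq_zero M).2 (eq_zero_of_app_top hM _ fun t => by
    rw [Subsingleton.elim t 0, map_zero])

/-- Quasi-coherent modules on affine schemes are quotients of free modules. -/
theorem exists_epi_free (hM : Coh.IsQCoh M) :
    ∃ (I : Type u) (p : (∐ fun _ : I => Coh.structureModule X) ⟶ M), Epi p := by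
  refine ⟨Γ(M, ⊤), Sigma.desc fun t => InvX.ofSect t, Preadditive.epi_of_cancel_zero _ fun c hc => ?_⟩
  refine eq_zero_of_app_top hM c fun t => ?_
  have h1 : InvX.ofSect t ≫ c = 0 := by
    have := congrArg (Sigma.ι (fun _ : Γ(M, ⊤) => Coh.structureModule X) t ≫ ·) hc
    simpa using this
  have h2 : InvX.one (InvX.ofSect t ≫ c) = c.app ⊤ t := congrArg (c.app ⊤) (InvX.one_ofSect t)
  rw [← h2, h1]
  rfl

omit [IsAffine X] in
theorem isQCoh_coprod_structure (I : Type u) : Coh.IsQCoh (∐ fun _ : I => Coh.structureModule X) :=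
  inferInstanceAs (SheafOfModules.free (R := X.ringCatSheaf) I).IsQuasicoherent

omit [IsAffine X] in
/-- A module with zero derived image sections over an affine base has no higher direct image. -/
theorem isZero_R_of_subsingleton_HH [IsAffine Y] [QuasiCompact f] [QuasiSeparated f] {G : X.Modules}
    (hG : Coh.IsQCoh G) (i : ℕ) (h : Subsingleton (Coh.HH X G i)) : IsZero ((R f i).obj G) := by
  obtain ⟨e⟩ := QCoh.nonempty_HH_equiv_sections f hG i
  cases i with
  | zero =>
    obtain ⟨e₀⟩ := QCoh.nonempty_RpushAb_zero_iso f G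
    haveI : Subsingleton Γ((Coh.push f).obj G, ⊤) :=
      (e.trans (((sheafToPresheaf _ _).mapIso e₀).app (Opposite.op ⊤)).addCommGroupIsoToAddEquiv).symm.subsingleton
    exact ((QCoh.toAbFunctor Y).map_isZero
      (isZero_of_subsingleton_top (QCoh.isQCoh_pushforward f hG))).of_iso e₀
  | succ q =>
    obtain ⟨e₀⟩ := QCoh.nonempty_RpushAb_iso f G q
    haveI : Subsingleton Γ(QCoh.rpushModel f G q, ⊤) :=
      (e.trans (((sheafToPresheaf _ _).mapIso e₀).app (Opposite.op ⊤)).addCommGroupIsoToAddEquiv).symm.subsingleton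
    exact ((QCoh.toAbFunctor Y).map_isZero
      (isZero_of_subsingleton_top (QCoh.locRange_rpushModel f hG q).isQCoh)).of_iso e₀

end Sheaves

end Groth.Agent.KRRLib.Pn
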