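import Groth.Agent.KRRLib.Pn.PullGen

/-!
# Higher direct images over an open of the base
-/

set_option autoImplicit false
set_option backward.isDefEq.respectTransparency false
set_option backward.isDefEq.respectTransparency.types false

universe u

open CategoryTheory CategoryTheory.Limits AlgebraicGeometry TopologicalSpace Opposite

namespace Groth.Agent.KRRLib.Pn

open Groth.Agent

section Restr

variable {X Y X' Y' : Scheme.{u}} {f : X ⟶ Y} {f' : X' ⟶ Y'} (k : X' ⟶ X) (j : Y' ⟶ Y)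
  [IsOpenImmersion k] [IsOpenImmersion j] (hk : ∀ V : Y'.Opens, k ''ᵁ (f' ⁻¹ᵁ V) = f ⁻¹ᵁ (j ''ᵁ V))

include hk in
/-- Vanishing of higher direct images restricts to opens of the base. -/
theorem isZero_RpushAb_restr : ∀ (q : ℕ) (F : CohTop.Ab X.toPresheafedSpace.carrier),
    IsZero ((Coh.RpushAb f (q + 1)).obj F) →
    IsZero ((Coh.RpushAb f' (q + 1)).obj ((QCoh.Ab.restr k.isOpenEmbedding).obj F)) := by
  intro q
  induction q with
  | zero =>
    intro F hF
    let := HasDerivedCategory.standard (CohTop.Ab X'.toPresheafedSpace.carrier)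
    let := HasDerivedCategory.standard (CohTop.Ab Y'.toPresheafedSpace.carrier)
    haveI := QCoh.preservesFiniteLimits_pushAb f'
    have hT := SiteBase.injectiveSES_shortExact F
    let T := SiteBase.injectiveSES F
    have hT' := QCoh.Ab.restr_shortExact k.isOpenEmbedding hT
    have hf : (T.map (CohTop.push f.base)).ShortExact := QCoh.Ab.push_shortExact_of_isZero (j := f.base) hT hF
    haveI := SiteBase.isFlasque_of_injective T.X₂
    haveI hepi : Epi ((Coh.pushAb f').map (T.map (QCoh.Ab.restr k.isOpenEmbedding)).g) := by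
      refine (TopCat.Sheaf.isLocallySurjective_iff_epi _).1
        ((TopCat.Presheaf.isLocallySurjective_iff _).2 fun V t y hy => ?_)
      let U : X.Opens := k ''ᵁ (f' ⁻¹ᵁ V)
      have hU : f ⁻¹ᵁ (j ''ᵁ V) ≤ U := (hk V).ge
      let t₀ : ↑(T.X₃.obj.obj (op (f ⁻¹ᵁ (j ''ᵁ V)))) := T.X₃.obj.map (homOfLE hU).op t
      obtain ⟨W, hWV, ⟨s, hs⟩, hyW⟩ := (TopCat.Presheaf.isLocallySurjective_iff _).1
        ((TopCat.Sheaf.isLocallySurjective_iff_epi (T.map (CohTop.push f.base)).g).2 hf.epi_g)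
        (j ''ᵁ V) t₀ (j y) ⟨y, hy, rfl⟩
      have hle : j ⁻¹ᵁ W ≤ V := by
        intro z hz
        obtain ⟨v, hv, e⟩ := hWV hz
        exact j.isOpenEmbedding.injective e ▸ hv
      have hle' : k ''ᵁ (f' ⁻¹ᵁ (j ⁻¹ᵁ W)) ≤ f ⁻¹ᵁ W := by
        rw [hk]
        exact f.preimage_mono (by rintro _ ⟨z, hz, rfl⟩; exact hz)
      refine ⟨j ⁻¹ᵁ W, hle, ⟨T.X₂.obj.map (homOfLE hle').op s, ?_⟩, hyW⟩
      refine (ConcreteCategory.congr_hom (T.g.hom.naturality (homOfLE hle').op) s).trans ?_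
      refine (congrArg (T.X₃.obj.map (homOfLE hle').op) hs).trans ?_
      show T.X₃.obj.map _ (T.X₃.obj.map _ (T.X₃.obj.map _ t)) = T.X₃.obj.map _ t
      rw [← ConcreteCategory.comp_apply, ← ConcreteCategory.comp_apply, ← T.X₃.obj.map_comp, ← T.X₃.obj.map_comp]
      exact congrArg (fun φ => T.X₃.obj.map φ t) (Subsingleton.elim _ _)
    obtain ⟨δ, w₁, w₂, w₃, -, -, e₃⟩ := TriCat.exists_rightDerived_ses (Coh.pushAb f') hT' 0
    haveI : Epi (((Coh.pushAb f').rightDerived 0).map (T.map (QCoh.Ab.restr k.isOpenEmbedding)).g) :=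
      ((MorphismProperty.epimorphisms _).arrow_mk_iso_iff (Arrow.isoOfNatIso (Coh.pushAb f').rightDerivedZeroIsoSelf
        (Arrow.mk (T.map (QCoh.Ab.restr k.isOpenEmbedding)).g))).2 hepi
    exact e₃.isZero_X₂ (zero_of_epi_comp _ w₂)
      ((QCoh.isZero_RpushAb_of_flasque f' _ (QCoh.Ab.isFlasque_restr k.isOpenEmbedding T.X₂) 0).eq_of_tgt _ _)
  | succ q ih =>
    intro F hF
    let := HasDerivedCategory.standard (CohTop.Ab X.toPresheafedSpace.carrier)
    let := HasDerivedCategory.standard (CohTop.Ab Y.toPresheafedSpace.carrier)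
    let := HasDerivedCategory.standard (CohTop.Ab X'.toPresheafedSpace.carrier)
    let := HasDerivedCategory.standard (CohTop.Ab Y'.toPresheafedSpace.carrier)
    haveI := QCoh.preservesFiniteLimits_pushAb f
    haveI := QCoh.preservesFiniteLimits_pushAb f'
    have hT := SiteBase.injectiveSES_shortExact F
    let T := SiteBase.injectiveSES F
    haveI := SiteBase.isFlasque_of_injective T.X₂
    obtain ⟨δ, w₁, w₂, w₃, -, e₂, -⟩ := TriCat.exists_rightDerived_ses (Coh.pushAb f) hT (q + 1)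
    have h3 : IsZero ((Coh.RpushAb f (q + 1)).obj T.X₃) :=
      e₂.isZero_X₂ ((QCoh.isZero_RpushAb_of_flasque f _ inferInstance q).eq_of_src _ _) (hF.eq_of_tgt _ _)
    obtain ⟨δ', v₁, v₂, v₃, -, -, e₃⟩ :=
      TriCat.exists_rightDerived_ses (Coh.pushAb f') (QCoh.Ab.restr_shortExact k.isOpenEmbedding hT) (q + 1)
    exact e₃.isZero_X₂ ((ih T.X₃ h3).eq_of_src _ _)
      ((QCoh.isZero_RpushAb_of_flasque f' _ (QCoh.Ab.isFlasque_restr k.isOpenEmbedding T.X₂) (q + 1)).eq_of_tgt _ _)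

end Restr

variable {n : ℕ} {T : Scheme.{u}}

theorem image_preimage_kW (W : T.Opens) (V : (W : Scheme.{u}).Opens) :
    kW n W ''ᵁ (KRR.pr n (W : Scheme.{u}) ⁻¹ᵁ V) = KRR.pr n T ⁻¹ᵁ (W.ι ''ᵁ V) := by
  have hc : ∀ z, KRR.pr n T (kW n W z) = W.ι (KRR.pr n (W : Scheme.{u}) z) := fun z => by
    rw [← Scheme.Hom.comp_apply, kW_pr, Scheme.Hom.comp_apply]
  refine Opens.ext (Set.ext fun x => ⟨?_, ?_⟩)
  · rintro ⟨z, hz, rfl⟩
    exact ⟨_, hz, (hc z).symm⟩
  · rintro ⟨v, hv, e⟩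
    have hx : x ∈ (kW n W).opensRange := by
      rw [opensRange_kW]
      show KRR.pr n T x ∈ W
      have hm : W.ι v ∈ W := W.opensRange_ι.le ⟨v, rfl⟩
      rwa [← e]
    obtain ⟨z, rfl⟩ := hx
    refine ⟨z, ?_, rfl⟩
    show KRR.pr n (W : Scheme.{u}) z ∈ V
    rwa [W.ι.isOpenEmbedding.injective ((hc z).symm.trans e.symm)]

/-- Vanishing over an open of the base. -/
theorem isZero_R_restrict (W : T.Opens) (i : ℕ) (hi : 1 ≤ i) {G : (KRR.PY n T).Modules}
    (h : IsZero ((R (KRR.pr n T) i).obj G)) :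
    IsZero ((R (KRR.pr n (W : Scheme.{u})) i).obj ((Scheme.Modules.pullback (kW n W)).obj G)) := by
  obtain ⟨q, rfl⟩ : ∃ q, i = q + 1 := ⟨i - 1, by omega⟩
  refine isZero_R_iso _ _ ((Scheme.Modules.restrictFunctorIsoPullback (kW n W)).app G) ?_
  exact isZero_RpushAb_restr (kW n W) W.ι (image_preimage_kW W) q _ h

end Groth.Agent.KRRLib.Pn
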