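import Groth.Agent.CohCore23.FlatPushBC
import Groth.Agent.QCoh.Pullback

/-!
# The unit of pullback and direct image after flat base change
-/

set_option autoImplicit false
set_option backward.isDefEq.respectTransparency false
set_option backward.isDefEq.respectTransparency.types false

universe u

open CategoryTheory AlgebraicGeometry

namespace Groth.Agent.KRRLib.Pn

open Scheme.Modules (pullback pushforward pullbackPushforwardAdjunction)

theorem unit_comp_eq {A B C : Scheme.{u}} (a : A ⟶ B) (b : B ⟶ C) (M : C.Modules) :
    (pullbackPushforwardAdjunction b).unit.app M ≫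
        (pushforward b).map ((pullbackPushforwardAdjunction a).unit.app ((pullback b).obj M)) ≫
          (Scheme.Modules.pushforwardComp a b).hom.app _ =
      (pullbackPushforwardAdjunction (a ≫ b)).unit.app M ≫
        (pushforward (a ≫ b)).map ((Scheme.Modules.pullbackComp a b).inv.app M) := by
  have h := unit_conjugateEquiv ((pullbackPushforwardAdjunction b).comp (pullbackPushforwardAdjunction a))
    (pullbackPushforwardAdjunction (a ≫ b)) (Scheme.Modules.pullbackComp a b).inv M
  rw [Scheme.Modules.conjugateEquiv_pullbackComp_inv, Adjunction.comp_unit_app] at h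
  exact (Category.assoc _ _ _).symm.trans h

theorem unit_congr_eq {A C : Scheme.{u}} {e e' : A ⟶ C} (h : e = e') (M : C.Modules) :
    (pullbackPushforwardAdjunction e).unit.app M ≫
        (Scheme.Modules.pushforwardCongr h).hom.app _ =
      (pullbackPushforwardAdjunction e').unit.app M ≫
        (pushforward e').map ((Scheme.Modules.pullbackCongr h).inv.app M) := by
  subst h
  have h1 : (Scheme.Modules.pushforwardCongr (rfl : e = e)).hom.app ((pullback e).obj M) = 𝟙 _ := by
    apply Scheme.Modules.hom_ext
    intro U
    rw [Scheme.Modules.pushforwardCongr_hom_app_app]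
    simp
  rw [h1]
  simp [Scheme.Modules.pullbackCongr]

variable {X Y X' Y' : Scheme.{u}} {f : X ⟶ Y} {g : Y' ⟶ Y} {g' : X' ⟶ X} {f' : X' ⟶ Y'}

/-- The unit becomes invertible after a flat base change where the unit is invertible. -/
theorem isIso_pullback_unit (H : IsPullback g' f' f g) [QuasiCompact f] [QuasiSeparated f] [Flat g]
    {M : Y.Modules} (hM : Coh.IsQCoh M)
    (hu : IsIso ((pullbackPushforwardAdjunction f').unit.app ((pullback g).obj M))) :
    IsIso ((pullback g).map ((pullbackPushforwardAdjunction f).unit.app M)) := by
  let adj := pullbackPushforwardAdjunction g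
  let β := (adj.homEquiv _ _).symm
    ((pushforward f).map ((pullbackPushforwardAdjunction g').unit.app ((pullback f).obj M)) ≫
      (Scheme.Modules.pushforwardComp g' f).hom.app _ ≫
      (Scheme.Modules.pushforwardCongr H.w).hom.app _ ≫
      (Scheme.Modules.pushforwardComp f' g).inv.app ((pullback g').obj ((pullback f).obj M)))
  haveI : IsIso β := Groth.Agent.CohCore23.BC.isIso_baseChangeMap H (Groth.Agent.QCoh.isQCoh_pullback f hM) β rfl
  let ρ := (Scheme.Modules.pullbackComp f' g).hom.app M ≫ (Scheme.Modules.pullbackCongr H.w).inv.app M ≫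
    (Scheme.Modules.pullbackComp g' f).inv.app M
  have key : (pullback g).map ((pullbackPushforwardAdjunction f).unit.app M) ≫ β =
      (pullbackPushforwardAdjunction f').unit.app ((pullback g).obj M) ≫ (pushforward f').map ρ := by
    apply (adj.homEquiv _ _).injective
    rw [adj.homEquiv_naturality_left]
    refine (congrArg (_ ≫ ·) ((adj.homEquiv _ _).apply_symm_apply _)).trans ?_
    rw [adj.homEquiv_unit, Functor.map_comp]
    have h1 := unit_comp_eq g' f M
    have h2 := unit_congr_eq H.w M
    have h3 := unit_comp_eq f' g M
    have hc := (Scheme.Modules.pushforwardComp f' g).inv.naturality ρ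
    have hn := (Scheme.Modules.pushforwardCongr H.w).hom.naturality ((Scheme.Modules.pullbackComp g' f).inv.app M)
    simp only [Functor.comp_obj, Functor.comp_map, Functor.id_obj] at h1 h2 h3 hc hn ⊢
    rw [reassoc_of% h1, reassoc_of% hn, reassoc_of% h2]
    rw [show (pullbackPushforwardAdjunction (f' ≫ g)).unit.app M =
        (adj.unit.app M ≫ (pushforward g).map ((pullbackPushforwardAdjunction f').unit.app ((pullback g).obj M)) ≫
          (Scheme.Modules.pushforwardComp f' g).hom.app _) ≫
          (pushforward (f' ≫ g)).map ((Scheme.Modules.pullbackComp f' g).hom.app M) from by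
      rw [h3, Category.assoc, ← Functor.map_comp, Iso.inv_hom_id_app, CategoryTheory.Functor.map_id, Category.comp_id]]
    simp only [Category.assoc]
    rw [← Functor.map_comp_assoc, ← Functor.map_comp_assoc, Category.assoc]
    refine congrArg (_ ≫ ·) (congrArg (_ ≫ ·) ?_)
    refine (congrArg (_ ≫ ·) hc).trans ?_
    rw [← Category.assoc, Iso.hom_inv_id_app]
    exact Category.id_comp _
  haveI : IsIso ((pullback g).map ((pullbackPushforwardAdjunction f).unit.app M) ≫ β) := key ▸ inferInstance
  exact IsIso.of_isIso_comp_right _ β

end Groth.Agent.KRRLib.Pn
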