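import Groth.Agent.KRRLib.Pn.PullT
import Groth.Agent.KRRLib.Pn.UnitBC
import Groth.Agent.KRRLib.Pn.Ext
import Groth.Agent.QCoh.OpenSub

/-!
# Twisted pullbacks to projective space over an arbitrary base
-/

set_option autoImplicit false
set_option backward.isDefEq.respectTransparency false
set_option backward.isDefEq.respectTransparency.types false

universe u

open CategoryTheory CategoryTheory.Limits AlgebraicGeometry TopologicalSpace

namespace Groth.Agent.KRRLib.Pn

open Groth.Agent Groth.Agent.PnCoh.Finite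

variable {n : ℕ} {T : Scheme.{u}}

/-- Projective space over an open of the base. -/
noncomputable abbrev kW (n : ℕ) {T : Scheme.{u}} (W : T.Opens) : KRR.PY n (W : Scheme.{u}) ⟶ KRR.PY n T :=
  KRR.projSpaceMap n W.ι

theorem kW_fst (W : T.Opens) : kW n W ≫ fstZ n T = fstZ n (W : Scheme.{u}) :=
  (pullback.lift_fst _ _ _).trans (Category.comp_id _)

theorem kW_pr (W : T.Opens) : kW n W ≫ KRR.pr n T = KRR.pr n (W : Scheme.{u}) ≫ W.ι :=
  pullback.lift_snd _ _ _

theorem isPullback_kW (W : T.Opens) : IsPullback (kW n W) (KRR.pr n (W : Scheme.{u})) (KRR.pr n T) W.ι := by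
  refine IsPullback.of_right ?_ (kW_pr W) (IsPullback.of_hasPullback (gZ.{u} n) (toZ T))
  have h : W.ι ≫ toZ T = toZ (W : Scheme.{u}) := specULiftZIsTerminal.hom_ext _ _
  show IsPullback (kW n W ≫ fstZ n T) _ _ _
  rw [kW_fst, h]
  exact IsPullback.of_hasPullback _ _

instance isOpenImmersion_kW (W : T.Opens) : IsOpenImmersion (kW n W) :=
  MorphismProperty.of_isPullback (P := @IsOpenImmersion) (isPullback_kW W).flip inferInstance

theorem opensRange_kW (W : T.Opens) : (kW n W).opensRange = KRR.pr n T ⁻¹ᵁ W := by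
  refine Opens.ext ?_
  have h := (isPullback_kW (n := n) W).isoPullback_hom_fst
  show Set.range (kW n W) = _
  rw [← h, Scheme.Hom.comp_base, TopCat.coe_comp, Set.range_comp,
    Set.range_eq_univ.2 (Scheme.Hom.surjective ((isPullback_kW (n := n) W).isoPullback.hom)), Set.image_univ,
    Scheme.Pullback.range_fst, Scheme.Opens.range_ι]
  rfl

/-- Restricting a twisted pullback. -/
theorem exists_twF_pullback_iso (W : T.Opens) (d : ℤ) (M : T.Modules) :
    Nonempty ((Scheme.Modules.pullback (kW n W)).obj (KRR.twF n T d ((Scheme.Modules.pullback (KRR.pr n T)).obj M)) ≅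
      KRR.twF n (W : Scheme.{u}) d ((Scheme.Modules.pullback (KRR.pr n (W : Scheme.{u}))).obj
        ((Scheme.Modules.pullback W.ι).obj M))) := by
  let e1 := ((KFlatLib.pullTensorBiIso (kW n W)).app (Tw n T d)).app ((Scheme.Modules.pullback (KRR.pr n T)).obj M)
  let t : (Scheme.Modules.pullback (kW n W)).obj (Tw n T d) ≅ Tw n (W : Scheme.{u}) d :=
    (Scheme.Modules.pullbackComp _ _).app _ ≪≫ (Scheme.Modules.pullbackCongr (kW_fst W)).app _
  let p : (Scheme.Modules.pullback (kW n W)).obj ((Scheme.Modules.pullback (KRR.pr n T)).obj M) ≅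
      (Scheme.Modules.pullback (KRR.pr n (W : Scheme.{u}))).obj ((Scheme.Modules.pullback W.ι).obj M) :=
    (Scheme.Modules.pullbackComp _ _).app _ ≪≫ (Scheme.Modules.pullbackCongr (kW_pr W)).app _ ≪≫
      ((Scheme.Modules.pullbackComp _ _).app _).symm
  exact ⟨e1 ≪≫ (DCoh.tensorBi.mapIso t).app _ ≪≫
    ((DCoh.tensorBi (X := KRR.PY n (W : Scheme.{u}))).obj (Tw n (W : Scheme.{u}) d)).mapIso p⟩

/-- Vanishing of higher direct images is local on the base. -/
theorem isZero_R_of_local {G : (KRR.PY n T).Modules} (k : ℕ)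
    (h : ∀ W : T.Opens, IsAffineOpen W → ∀ q : ℕ, k + 1 ≤ q →
      Subsingleton (CohTop.HU (X := (KRR.PY n T).toPresheafedSpace.carrier) (QCoh.abSheaf G) q (KRR.pr n T ⁻¹ᵁ W)))
    (q : ℕ) (hq : k + 1 ≤ q) : IsZero ((R (KRR.pr n T) q).obj G) :=
  QCoh.Ab.Rpush_isZero_of_bound (KRR.pr n T).base (fun W => IsAffineOpen W)
    (fun U y hy => by
      obtain ⟨W, hW, hyW, hWU⟩ := exists_isAffineOpen_mem_and_subset (X := T) (x := y) hy
      exact ⟨W, hWU, hyW, hW⟩) k (QCoh.abSheaf G) h q hq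

theorem subsingleton_HU_of_HH {X U : Scheme.{u}} (j : U ⟶ X) [IsOpenImmersion j] (G : X.Modules) (q : ℕ)
    (h : Subsingleton (Coh.HH U ((Scheme.Modules.pullback j).obj G) (q + 1))) :
    Subsingleton (CohTop.HU (X := X.toPresheafedSpace.carrier) (QCoh.abSheaf G) (q + 1) j.opensRange) := by
  have h1 : Subsingleton (Coh.HH U (G.restrict j) (q + 1)) :=
    QCoh.subsingleton_HH_of_iso ((Scheme.Modules.restrictFunctorIsoPullback j).app G).symm (q + 1) h
  haveI : Subsingleton (CohTop.H ((QCoh.Ab.restr j.isOpenEmbedding).obj (QCoh.abSheaf G)) (q + 1)) := h1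
  have h2 : Subsingleton (CohTop.HU ((QCoh.Ab.restr j.isOpenEmbedding).obj (QCoh.abSheaf G)) (q + 1) ⊤) :=
    (SiteBase.huTerminalEquiv isTerminalTop _ (q + 1)).toEquiv.subsingleton
  have h3 := (QCoh.Ab.subsingleton_HU_restr_iff j.isOpenEmbedding q _ ⊤).1 h2
  have e : j.isOpenEmbedding.isOpenMap.functor.obj ⊤ = j.opensRange := Opens.ext Set.image_univ
  rwa [e] at h3

/-- No higher direct images above the relative dimension. -/
theorem isZero_R_top {G : (KRR.PY n T).Modules} (hG : Coh.IsQCoh G) (i : ℕ) (hi : n + 1 ≤ i) :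
    IsZero ((R (KRR.pr n T) i).obj G) := by
  refine isZero_R_of_local n (fun W hW q hq => ?_) i hi
  have h := QCoh.subsingleton_HU_iSup hG
    (fun V => ∃ A, IsAffineOpen A ∧ V = fstZ n T ⁻¹ᵁ A ⊓ KRR.pr n T ⁻¹ᵁ W)
    (fun V ⟨A, hA, e⟩ => e ▸ isAffineOpen_preimage_inf n T hA hW)
    (fun V V' ⟨A, hA, e⟩ ⟨A', hA', e'⟩ => ⟨A ⊓ A', IsAffineOpen.inf hA hA', by
      rw [e, e', inf_inf_inf_comm, inf_idem]; rfl⟩)
    (n + 1) (fun j => piece n T W ⟨j⟩)
    (fun j => ⟨_, isAffineOpen_D n ⟨j⟩, inf_comm _ _⟩) q hq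
  have e : (⨆ j : Fin (n + 1), piece n T W ⟨j⟩) = KRR.pr n T ⁻¹ᵁ W := by
    refine le_antisymm (iSup_le fun j => inf_le_left) fun p hp => ?_
    obtain ⟨j, hj⟩ := Opens.mem_iSup.1 ((iSup_chart n T).ge (trivial : p ∈ (⊤ : (KRR.PY n T).Opens)))
    exact Opens.mem_iSup.2 ⟨j.down, hp, hj⟩
  rwa [e] at h

/-- Twisted pullbacks have no higher direct images in degrees `≥ -n`. -/
theorem isZero_R_pullback {d : ℤ} (hd : -(n : ℤ) ≤ d) (i : ℕ) (hi : 1 ≤ i) {M : T.Modules} (hM : Coh.IsQCoh M) :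
    IsZero ((R (KRR.pr n T) i).obj (KRR.twF n T d ((Scheme.Modules.pullback (KRR.pr n T)).obj M))) := by
  refine isZero_R_of_local 0 (fun W hW q hq => ?_) i (by omega)
  haveI : IsAffine (W : Scheme.{u}) := hW
  obtain ⟨e⟩ := exists_twF_pullback_iso (n := n) W d M
  obtain ⟨q, rfl⟩ : ∃ r, q = r + 1 := ⟨q - 1, by omega⟩
  have hz := isZero_R_pullback_affine n (W : Scheme.{u}) hd (q + 1) (by omega) (QCoh.isQCoh_pullback W.ι hM)
  obtain ⟨e₂⟩ := QCoh.nonempty_HH_equiv_sections (KRR.pr n (W : Scheme.{u}))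
    (isQCoh_twF_pullback n (W : Scheme.{u}) d (QCoh.isQCoh_pullback W.ι hM)) (q + 1)
  haveI : Subsingleton (((Coh.RpushAb (KRR.pr n (W : Scheme.{u})) (q + 1)).obj (Coh.toAb (KRR.twF n (W : Scheme.{u}) d
      ((Scheme.Modules.pullback (KRR.pr n (W : Scheme.{u}))).obj ((Scheme.Modules.pullback W.ι).obj M))))).obj.obj
        (Opposite.op ⊤)) :=
    AddCommGrpCat.subsingleton_of_isZero
      (((sheafToPresheaf _ _ ⋙ (CategoryTheory.evaluation _ _).obj (Opposite.op ⊤)).map_isZero hz))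
  have h := subsingleton_HU_of_HH (kW n W) _ q (QCoh.subsingleton_HH_of_iso e.symm (q + 1) e₂.toEquiv.subsingleton)
  rwa [opensRange_kW] at h

/-- `pr_* (O(-1) ⊗ pr^* M) = 0` in positive relative dimension. -/
theorem isZero_push_pullback_neg_one (hn : 1 ≤ n) {M : T.Modules} (hM : Coh.IsQCoh M) :
    IsZero ((R (KRR.pr n T) 0).obj (KRR.twF n T (-1) ((Scheme.Modules.pullback (KRR.pr n T)).obj M))) := by
  let G := KRR.twF n T (-1) ((Scheme.Modules.pullback (KRR.pr n T)).obj M)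
  have key : ∀ W : T.Opens, IsAffineOpen W → ∀ s : Γ(G, KRR.pr n T ⁻¹ᵁ W), s = 0 := fun W hW s => by
    haveI : IsAffine (W : Scheme.{u}) := hW
    obtain ⟨e⟩ := exists_twF_pullback_iso (n := n) W (-1) M
    have hz := isZero_R_pullback_neg_one_affine n (W : Scheme.{u}) hn (QCoh.isQCoh_pullback W.ι hM)
    obtain ⟨e₂⟩ := QCoh.nonempty_HH_equiv_sections (KRR.pr n (W : Scheme.{u}))
      (isQCoh_twF_pullback n (W : Scheme.{u}) (-1) (QCoh.isQCoh_pullback W.ι hM)) 0
    haveI : Subsingleton (((Coh.RpushAb (KRR.pr n (W : Scheme.{u})) 0).obj (Coh.toAb (KRR.twF n (W : Scheme.{u}) (-1)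
        ((Scheme.Modules.pullback (KRR.pr n (W : Scheme.{u}))).obj ((Scheme.Modules.pullback W.ι).obj M))))).obj.obj
          (Opposite.op ⊤)) :=
      AddCommGrpCat.subsingleton_of_isZero
        (((sheafToPresheaf _ _ ⋙ (CategoryTheory.evaluation _ _).obj (Opposite.op ⊤)).map_isZero hz))
    haveI : Subsingleton (Coh.HH _ (G.restrict (kW n W)) 0) :=
      QCoh.subsingleton_HH_of_iso ((Scheme.Modules.restrictFunctorIsoPullback (kW n W)).app G).symm 0
        (QCoh.subsingleton_HH_of_iso e.symm 0 e₂.toEquiv.subsingleton)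
    haveI hsub : Subsingleton Γ(G.restrict (kW n W), ⊤) :=
      (Sheaf.H.equiv₀ (Coh.toAb (G.restrict (kW n W))) isTerminalTop).symm.toEquiv.subsingleton
    have key' : ∀ V : (KRR.PY n T).Opens, kW n W ''ᵁ ⊤ = V → ∀ s : Γ(G, V), s = 0 := by
      rintro _ rfl s; exact hsub.elim s (0 : Γ(G.restrict (kW n W), ⊤))
    exact key' _ ((Scheme.Hom.image_top_eq_opensRange _).trans (opensRange_kW W)) s
  obtain ⟨e₀⟩ := QCoh.nonempty_RpushAb_zero_iso (KRR.pr n T) G
  refine ((QCoh.toAbFunctor T).map_isZero ((IsZero.iff_id_eq_zero _).2 ?_)).of_iso e₀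
  apply Scheme.Modules.hom_ext
  intro U
  ext s
  refine AModX.eq_of_locally _ _ fun p hp => ?_
  obtain ⟨W, hW, hpW, hWU⟩ := exists_isAffineOpen_mem_and_subset (X := T) (x := p) hp
  exact ⟨W, hWU, hpW, (key W hW _).trans (key W hW _).symm⟩

/-- The unit is invertible on quasi-coherent modules. -/
theorem isIso_unit_pr {M : T.Modules} (hM : Coh.IsQCoh M) :
    IsIso ((Scheme.Modules.pullbackPushforwardAdjunction (KRR.pr n T)).unit.app M) := by
  refine QCoh.isIso_of_isBasis _ T.isBasis_affineOpens fun W hW => ?_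
  haveI : IsAffine (W : Scheme.{u}) := hW
  let η := (Scheme.Modules.pullbackPushforwardAdjunction (KRR.pr n T)).unit.app M
  haveI h1 : IsIso ((Scheme.Modules.pullback W.ι).map η) :=
    isIso_pullback_unit (isPullback_kW (n := n) W) hM
      (isIso_unit_pr_affine n (W : Scheme.{u}) (QCoh.isQCoh_pullback W.ι hM))
  haveI h2 : IsIso ((Scheme.Modules.restrictFunctor W.ι).map η) :=
    (NatIso.isIso_map_iff (Scheme.Modules.restrictFunctorIsoPullback W.ι) η).2 h1
  have key : ∀ V : T.Opens, W.ι ''ᵁ ⊤ = V → Function.Bijective (η.app V) := by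
    rintro _ rfl
    haveI : IsIso (η.app (W.ι ''ᵁ ⊤)) := inferInstanceAs
      (IsIso (((Scheme.Modules.toPresheaf _).map ((Scheme.Modules.restrictFunctor W.ι).map η)).app (Opposite.op ⊤)))
    exact ConcreteCategory.bijective_of_isIso _
  exact key W ((Scheme.Hom.image_top_eq_opensRange _).trans W.opensRange_ι)

end Groth.Agent.KRRLib.Pn
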