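import Groth.Agent.KRRLib.Pn.PullZ
import Groth.Agent.CohCore23.FlatPushBC

/-!
# Twisted pullbacks to projective space over an affine base
-/

set_option autoImplicit false
set_option backward.isDefEq.respectTransparency false
set_option backward.isDefEq.respectTransparency.types false

universe u

open CategoryTheory CategoryTheory.Limits AlgebraicGeometry TopologicalSpace

namespace Groth.Agent.KRRLib.Pn

open Groth.Agent Groth.Agent.PnCoh.Finite

variable (n : ℕ) (T : Scheme.{u})

instance isProper_pr : IsProper (KRR.pr n T) :=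
  MorphismProperty.pullback_snd (P := @IsProper) _ _ (isProper_gZ.{u} n)

instance flat_pr : Flat (KRR.pr n T) :=
  MorphismProperty.pullback_snd (P := @Flat) _ _ (flat_gZ.{u} n)

/-- The map to the spectrum of the integers. -/
noncomputable abbrev toZ : T ⟶ Spec (CommRingCat.of ZZ.{u}) := specULiftZIsTerminal.from T

theorem isPullback_fstZ : IsPullback (KRR.pr n T) (fstZ n T) (toZ T) (gZ.{u} n) :=
  (IsPullback.of_hasPullback (gZ.{u} n) (toZ T)).flip

instance isEquivalence_Tw (d : ℤ) : ((DCoh.tensorBi (X := KRR.PY n T)).obj (Tw n T d)).IsEquivalence := by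
  obtain ⟨z⟩ := exists_Tw_zero n T
  have h : ∀ a b : ℤ, a + b = 0 →
      Nonempty (((DCoh.tensorBi (X := KRR.PY n T)).obj (Tw n T a)).obj (Tw n T b) ≅ Coh.structureModule (KRR.PY n T)) :=
    fun a b h => by
      obtain ⟨e⟩ := exists_Tw_add n T a b
      rw [h] at e
      exact ⟨e ≪≫ z⟩
  exact isEquivalence_tensor (h d (-d) (add_neg_cancel d)).some (h (-d) d (neg_add_cancel d)).some

instance isEquivalence_twist (d : ℤ) :
    ((DCoh.tensorBi (X := Proj (gr.{u} n))).obj (Twist.twist (gr.{u} n) d)).IsEquivalence := by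
  haveI := isIso_oneHom (coord n) (coord_mem n) (coord_cover.{u} n)
  have h : ∀ a b : ℤ, a + b = 0 → Nonempty (((DCoh.tensorBi (X := Proj (gr.{u} n))).obj (Twist.twist (gr.{u} n) a)).obj
      (Twist.twist (gr.{u} n) b) ≅ Coh.structureModule (Proj (gr.{u} n))) :=
    fun a b h => by
      have e : Nonempty (((DCoh.tensorBi (X := Proj (gr.{u} n))).obj (Twist.twist (gr.{u} n) a)).obj
          (Twist.twist (gr.{u} n) b) ≅ Twist.twist (gr.{u} n) (a + b)) :=
        twist_tensor_iso (coord n) (coord_mem n) (coord_cover.{u} n) a b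
      rw [h] at e
      exact ⟨e.some ≪≫ (asIso (oneHom (𝒜 := gr.{u} n))).symm⟩
  exact isEquivalence_tensor (h d (-d) (add_neg_cancel d)).some (h (-d) d (neg_add_cancel d)).some

section Affine

variable [IsAffine T]

instance isAffineHom_fstZ : IsAffineHom (fstZ n T) :=
  MorphismProperty.pullback_fst (P := @IsAffineHom) _ _ (inferInstanceAs (IsAffineHom (toZ T)))

theorem exists_push_pullback {M : T.Modules} (hM : Coh.IsQCoh M) :
    ∃ β : (Scheme.Modules.pullback (gZ.{u} n)).obj ((Scheme.Modules.pushforward (toZ T)).obj M) ⟶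
        (Scheme.Modules.pushforward (fstZ n T)).obj ((Scheme.Modules.pullback (KRR.pr n T)).obj M),
      IsIso β ∧ β = ((Scheme.Modules.pullbackPushforwardAdjunction (gZ.{u} n)).homEquiv _ _).symm
        ((Scheme.Modules.pushforward (toZ T)).map
            ((Scheme.Modules.pullbackPushforwardAdjunction (KRR.pr n T)).unit.app M) ≫
          (Scheme.Modules.pushforwardComp (KRR.pr n T) (toZ T)).hom.app _ ≫
          (Scheme.Modules.pushforwardCongr (isPullback_fstZ n T).w).hom.app _ ≫
          (Scheme.Modules.pushforwardComp (fstZ n T) (gZ.{u} n)).inv.app _) :=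
  ⟨_, CohCore23.BC.isIso_baseChangeMap (isPullback_fstZ n T) hM _ rfl, rfl⟩

theorem isQCoh_twF_pullback (d : ℤ) {M : T.Modules} (hM : Coh.IsQCoh M) :
    Coh.IsQCoh (KRR.twF n T d ((Scheme.Modules.pullback (KRR.pr n T)).obj M)) :=
  isQCoh_twF n T d (QCoh.isQCoh_pullback _ hM)

/-- Higher direct images over an affine base are computed over the integers. -/
theorem isZero_R_of_isZero_R_gZ (d : ℤ) {M : T.Modules} (hM : Coh.IsQCoh M) (i : ℕ)
    (h : IsZero ((R (gZ.{u} n) i).obj ((Phi n d).obj ((Scheme.Modules.pushforward (toZ T)).obj M)))) :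
    IsZero ((R (KRR.pr n T) i).obj (KRR.twF n T d ((Scheme.Modules.pullback (KRR.pr n T)).obj M))) := by
  obtain ⟨β, hβ, -⟩ := exists_push_pullback n T hM
  obtain ⟨e⟩ := nonempty_push_tensor_iso (fstZ n T) (Twist.twist (gr.{u} n) d)
    ((Scheme.Modules.pullback (KRR.pr n T)).obj M)
  have h1 : IsZero ((R (gZ.{u} n) i).obj
      ((Scheme.Modules.pushforward (fstZ n T)).obj (KRR.twF n T d ((Scheme.Modules.pullback (KRR.pr n T)).obj M)))) :=
    isZero_R_iso _ i
      (((DCoh.tensorBi (X := Proj (gr.{u} n))).obj (Twist.twist (gr.{u} n) d)).mapIso (asIso β) ≪≫ e.symm) h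
  obtain ⟨e₁⟩ := QCoh.nonempty_RpushAb_affine_push (fstZ n T) (gZ.{u} n) (isQCoh_twF_pullback n T d hM) i
  obtain ⟨e₂⟩ := QCoh.nonempty_HH_equiv_sections (fstZ n T ≫ gZ.{u} n) (isQCoh_twF_pullback n T d hM) i
  have h2 := h1.of_iso e₁.symm
  haveI : Subsingleton (((Coh.RpushAb (fstZ n T ≫ gZ.{u} n) i).obj
      (Coh.toAb (KRR.twF n T d ((Scheme.Modules.pullback (KRR.pr n T)).obj M)))).obj.obj (Opposite.op ⊤)) :=
    AddCommGrpCat.subsingleton_of_isZero
      (((sheafToPresheaf _ _ ⋙ (CategoryTheory.evaluation _ _).obj (Opposite.op ⊤)).map_isZero h2))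
  exact isZero_R_of_subsingleton_HH _ (isQCoh_twF_pullback n T d hM) i e₂.toEquiv.subsingleton

theorem isZero_R_pullback_affine {d : ℤ} (hd : -(n : ℤ) ≤ d) (i : ℕ) (hi : 1 ≤ i) {M : T.Modules}
    (hM : Coh.IsQCoh M) :
    IsZero ((R (KRR.pr n T) i).obj (KRR.twF n T d ((Scheme.Modules.pullback (KRR.pr n T)).obj M))) :=
  isZero_R_of_isZero_R_gZ n T d hM i (isZero_R_Phi n hd i hi (QCoh.isQCoh_pushforward _ hM))

theorem isZero_R_pullback_neg_one_affine (hn : 1 ≤ n) {M : T.Modules} (hM : Coh.IsQCoh M) :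
    IsZero ((R (KRR.pr n T) 0).obj (KRR.twF n T (-1) ((Scheme.Modules.pullback (KRR.pr n T)).obj M))) :=
  isZero_R_of_isZero_R_gZ n T (-1) hM 0 (isZero_R_Phi_neg_one n hn (QCoh.isQCoh_pushforward _ hM))

omit n in
theorem isIso_of_bijective_top {M Q : T.Modules} (hM : Coh.IsQCoh M) (hQ : Coh.IsQCoh Q) (φ : M ⟶ Q)
    (hb : Function.Bijective (φ.app ⊤)) : IsIso φ := by
  haveI : Mono φ := Preadditive.mono_of_kernel_zero (IsZero.eq_of_src (by
    haveI : Subsingleton Γ(kernel φ, ⊤) := ⟨fun a b => by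
      have hinj : Function.Injective ((kernel.ι φ).app ⊤) := by
        haveI : Mono ((Scheme.Modules.toPresheaf _).map (kernel.ι φ)) := inferInstance
        exact (AddCommGrpCat.mono_iff_injective _).1
          (inferInstanceAs (Mono (((Scheme.Modules.toPresheaf _).map (kernel.ι φ)).app (Opposite.op ⊤))))
      refine hinj (hb.1 ?_)
      have h := fun x => congr(($(kernel.condition φ)).app ⊤ x)
      exact (h a).trans (h b).symm⟩
    exact isZero_of_subsingleton_top (QCoh.isQCoh_kernel hM hQ φ)) _ _)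
  haveI : Epi φ := Preadditive.epi_of_cancel_zero _ fun c hc => eq_zero_of_app_top hQ c fun t => by
    obtain ⟨a, rfl⟩ := hb.2 t
    exact congr(($hc).app ⊤ a)
  exact isIso_of_mono_of_epi φ

omit n in
theorem isIso_of_isIso_push {S : Scheme.{u}} (t : T ⟶ S) {M Q : T.Modules} (hM : Coh.IsQCoh M) (hQ : Coh.IsQCoh Q)
    (φ : M ⟶ Q) (h : IsIso ((Scheme.Modules.pushforward t).map φ)) : IsIso φ := by
  have key : ∀ W : T.Opens, W = ⊤ → Function.Bijective (φ.app W) → Function.Bijective (φ.app ⊤) := by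
    rintro _ rfl h; exact h
  refine isIso_of_bijective_top T hM hQ φ (key (t ⁻¹ᵁ ⊤) rfl ?_)
  haveI : IsIso (φ.app (t ⁻¹ᵁ ⊤)) :=
    inferInstanceAs (IsIso (((Scheme.Modules.toPresheaf _).map ((Scheme.Modules.pushforward t).map φ)).app (Opposite.op ⊤)))
  exact ConcreteCategory.bijective_of_isIso _

theorem isIso_unit_pr_affine {M : T.Modules} (hM : Coh.IsQCoh M) :
    IsIso ((Scheme.Modules.pullbackPushforwardAdjunction (KRR.pr n T)).unit.app M) := by
  obtain ⟨β, hβ, hβ'⟩ := exists_push_pullback n T hM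
  haveI := isIso_unit n (QCoh.isQCoh_pushforward (toZ T) hM)
  let adj := Scheme.Modules.pullbackPushforwardAdjunction (gZ.{u} n)
  have hX : adj.homEquiv _ _ β = (Scheme.Modules.pushforward (toZ T)).map
      ((Scheme.Modules.pullbackPushforwardAdjunction (KRR.pr n T)).unit.app M) ≫
      (Scheme.Modules.pushforwardComp (KRR.pr n T) (toZ T)).hom.app _ ≫
      (Scheme.Modules.pushforwardCongr (isPullback_fstZ n T).w).hom.app _ ≫
      (Scheme.Modules.pushforwardComp (fstZ n T) (gZ.{u} n)).inv.app _ := by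
    rw [hβ']
    exact (adj.homEquiv _ _).apply_symm_apply _
  haveI : IsIso (adj.homEquiv _ _ β) := by
    rw [adj.homEquiv_unit]
    exact inferInstance
  rw [hX] at this
  haveI := IsIso.of_isIso_comp_right ((Scheme.Modules.pushforward (toZ T)).map
      ((Scheme.Modules.pullbackPushforwardAdjunction (KRR.pr n T)).unit.app M))
    ((Scheme.Modules.pushforwardComp (KRR.pr n T) (toZ T)).hom.app _ ≫
      (Scheme.Modules.pushforwardCongr (isPullback_fstZ n T).w).hom.app _ ≫
      (Scheme.Modules.pushforwardComp (fstZ n T) (gZ.{u} n)).inv.app _)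
  have hP : Coh.IsQCoh ((Scheme.Modules.pushforward (KRR.pr n T)).obj ((Scheme.Modules.pullback (KRR.pr n T)).obj M)) :=
    QCoh.isQCoh_pushforward (KRR.pr n T) (QCoh.isQCoh_pullback (KRR.pr n T) hM)
  exact isIso_of_isIso_push (Q := (Scheme.Modules.pushforward (KRR.pr n T)).obj ((Scheme.Modules.pullback (KRR.pr n T)).obj M)) T (toZ T) hM hP _ this

end Affine

end Groth.Agent.KRRLib.Pn
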