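import Groth.Agent.KRRLib.Pn.Twist
import Groth.Agent.KRRLib.Pn.Gen
import Groth.Agent.PnCoh.Chow.Proper
import Groth.Agent.PnCoh.Global
import Groth.Agent.PruferCoh.Chart
import Groth.Agent.KFlatLib.Scheme.FlatDescent
import Groth.Agent.S0844

/-!
# Higher direct images of twisted pullbacks on projective space over the integers
-/

set_option autoImplicit false
set_option backward.isDefEq.respectTransparency false
set_option backward.isDefEq.respectTransparency.types false

universe u

open CategoryTheory CategoryTheory.Limits AlgebraicGeometry TopologicalSpace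

namespace Groth.Agent.KRRLib.Pn

open Groth.Agent Groth.Agent.PnCoh.Finite

variable (n : ℕ)

/-- The structure morphism of projective space over the integers. -/
noncomputable abbrev gZ : Proj (gr.{u} n) ⟶ Spec (CommRingCat.of ZZ.{u}) := CohB1.ProjSpace.toSpec n ZZ.{u}

instance isProper_gZ : IsProper (gZ.{u} n) := PnCoh.Chow.isProper_toSpec n ZZ.{u}

instance flat_gZ : Flat (gZ.{u} n) := by
  refine (IsZariskiLocalAtSource.iff_of_iSup_eq_top (P := @Flat)
    (fun j : ULift.{u} (Fin (n + 1)) => D (gr.{u} n) (coord n j)) (coord_cover n)).2 fun j => ?_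
  obtain ⟨e, he⟩ := PruferCoh.exists_chart_equiv n ZZ.{u} j.down
  have hD : IsAffineOpen (D (gr.{u} n) (coord n j)) := Proj.isAffineOpen_basicOpen _ _ (coord_mem n j) one_pos
  haveI : IsAffine _ := hD
  have h3 := IsAffineOpen.SpecMap_appLE_fromSpec (gZ.{u} n) (isAffineOpen_top _) hD
    (le_top : D (gr.{u} n) (coord n j) ≤ gZ.{u} n ⁻¹ᵁ ⊤)
  have hf : ((gZ.{u} n).appLE ⊤ (D (gr.{u} n) (coord n j)) le_top).hom.Flat := by
    have h : ((gZ.{u} n).appLE ⊤ (D (gr.{u} n) (coord n j)) le_top).hom =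
        (e.toRingHom.comp MvPolynomial.C).comp
          (Scheme.ΓSpecIso (CommRingCat.of ZZ.{u})).commRingCatIsoToRingEquiv.toRingHom := by
      refine RingHom.ext fun c => ?_
      refine Eq.trans ?_ (he _).symm
      exact congrArg _ ((Scheme.ΓSpecIso (CommRingCat.of ZZ.{u})).commRingCatIsoToRingEquiv.symm_apply_apply c).symm
    rw [h]
    exact RingHom.Flat.comp (RingHom.Flat.of_bijective (RingEquiv.bijective _))
      (RingHom.Flat.comp (RingHom.flat_algebraMap_iff.2 inferInstance) (RingHom.Flat.of_bijective e.bijective))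
  haveI : Flat (Spec.map ((gZ.{u} n).appLE ⊤ (D (gr.{u} n) (coord n j)) le_top)) :=
    (HasRingHomProperty.Spec_iff (P := @Flat)).2 hf
  show Flat ((D (gr.{u} n) (coord n j)).ι ≫ gZ.{u} n)
  rw [← hD.isoSpec_hom_fromSpec, Category.assoc, ← h3]
  infer_instance

/-- `N ↦ O(d) ⊗ g^* N`. -/
noncomputable abbrev Phi (d : ℤ) : (Spec (CommRingCat.of ZZ.{u})).Modules ⥤ (Proj (gr.{u} n)).Modules :=
  Scheme.Modules.pullback (gZ.{u} n) ⋙ (DCoh.tensorBi (X := Proj (gr.{u} n))).obj (Twist.twist (gr.{u} n) d)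

theorem isQCoh_Phi (d : ℤ) {N : (Spec (CommRingCat.of ZZ.{u})).Modules} (hN : Coh.IsQCoh N) :
    Coh.IsQCoh ((Phi n d).obj N) :=
  KFlatLib.isQCoh_tensor (PnCoh.isQCoh_twist (coord n) (coord_mem n) (coord_cover n) d)
    (QCoh.isQCoh_pullback _ hN)

theorem shortExact_pullback_gZ {S : ShortComplex (Spec (CommRingCat.of ZZ.{u})).Modules} (hS : S.ShortExact) :
    (S.map (Scheme.Modules.pullback (gZ.{u} n))).ShortExact := by
  haveI := KFlatLib.preservesHomology_pullback (gZ.{u} n)
  haveI := (Scheme.Modules.pullback (gZ.{u} n)).preservesFiniteLimits_of_preservesHomology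
  haveI := (Scheme.Modules.pullback (gZ.{u} n)).preservesFiniteColimits_of_preservesHomology
  exact hS.map_of_exact _

theorem shortExact_Phi (d : ℤ) {S : ShortComplex (Spec (CommRingCat.of ZZ.{u})).Modules} (hS : S.ShortExact) :
    (S.map (Phi n d)).ShortExact := by
  have h := KFlatLib.flatObj_of_isFlat (isFlat_twist (coord n) (coord_mem n) (coord_cover.{u} n) d) _
    (shortExact_pullback_gZ n hS)
  exact ShortComplex.shortExact_of_iso ((S.map (Scheme.Modules.pullback (gZ.{u} n))).mapNatIso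
    ((KFlatLib.tensorBiFlipIso (Proj (gr.{u} n))).app (Twist.twist (gr.{u} n) d))) h

theorem exists_Phi_structure (d : ℤ) :
    Nonempty ((Phi n d).obj (Coh.structureModule (Spec (CommRingCat.of ZZ.{u}))) ≅ Twist.twist (gr.{u} n) d) := by
  obtain ⟨e⟩ := PicClLib.nonempty_pullback_structureModule (gZ.{u} n)
  exact ⟨((DCoh.tensorBi (X := Proj (gr.{u} n))).obj (Twist.twist (gr.{u} n) d)).mapIso e ≪≫
    (KFlatLib.tensorStructureIso (Proj (gr.{u} n))).app (Twist.twist (gr.{u} n) d)⟩

theorem isZero_R_twist (d : ℤ) (i : ℕ) (h₀ : ¬ (i = 0 ∧ 0 ≤ d)) (hn : ¬ (i = n ∧ d ≤ -((n : ℤ) + 1))) :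
    IsZero ((R (gZ.{u} n) i).obj (Twist.twist (gr.{u} n) d)) :=
  isZero_R_of_subsingleton_HH _ (PnCoh.isQCoh_twist (coord n) (coord_mem n) (coord_cover n) d) i
    (S0844.result ZZ.{u} n d i h₀ hn)

theorem isZero_R_Phi_free (d : ℤ) (i : ℕ) (h₀ : ¬ (i = 0 ∧ 0 ≤ d)) (hn : ¬ (i = n ∧ d ≤ -((n : ℤ) + 1)))
    (I : Type u) :
    IsZero ((R (gZ.{u} n) i).obj
      ((Phi n d).obj (∐ fun _ : I => Coh.structureModule (Spec (CommRingCat.of ZZ.{u}))))) := by
  obtain ⟨e⟩ := exists_Phi_structure n d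
  exact isZero_R_iso _ i (PreservesCoproduct.iso (Phi n d) _).symm
    (isZero_R_coprod _ i _ fun _ => isZero_R_iso _ i e.symm (isZero_R_twist n d i h₀ hn))

/-- Vanishing in positive degrees. -/
theorem isZero_R_Phi {d : ℤ} (hd : -(n : ℤ) ≤ d) (i : ℕ) (hi : 1 ≤ i)
    {N : (Spec (CommRingCat.of ZZ.{u})).Modules} (hN : Coh.IsQCoh N) :
    IsZero ((R (gZ.{u} n) i).obj ((Phi n d).obj N)) := by
  suffices ∀ m i : ℕ, n + 1 ≤ i + m → 1 ≤ i → ∀ N : (Spec (CommRingCat.of ZZ.{u})).Modules, Coh.IsQCoh N →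
      IsZero ((R (gZ.{u} n) i).obj ((Phi n d).obj N)) from this (n + 1) i (Nat.le_add_left _ _) hi N hN
  intro m
  induction m with
  | zero =>
    intro i hni _ N hN
    exact isZero_R_of_subsingleton_HH _ (isQCoh_Phi n d hN) i
      (PruferCoh.hvan n ZZ.{u} _ (isQCoh_Phi n d hN) i (by omega))
  | succ m ih =>
    intro i hni hi N hN
    obtain ⟨I, p, hp⟩ := exists_epi_free hN
    have hS : (ShortComplex.mk (kernel.ι p) p (kernel.condition p)).ShortExact :=
      ShortComplex.ShortExact.mk' (ShortComplex.exact_of_f_is_kernel _ (kernelIsKernel p)) inferInstance hp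
    exact isZero_R_X₃ (gZ.{u} n) (shortExact_Phi n d hS) i
      (isZero_R_Phi_free n d i (by omega) (by omega) I)
      (ih (i + 1) (by omega) (by omega) _ (QCoh.isQCoh_kernel (isQCoh_coprod_structure I) hN p))

/-- `g_* (O(-1) ⊗ g^* N) = 0` in positive relative dimension. -/
theorem isZero_R_Phi_neg_one (hn : 1 ≤ n) {N : (Spec (CommRingCat.of ZZ.{u})).Modules} (hN : Coh.IsQCoh N) :
    IsZero ((R (gZ.{u} n) 0).obj ((Phi n (-1)).obj N)) := by
  obtain ⟨I, p, hp⟩ := exists_epi_free hN
  have hS : (ShortComplex.mk (kernel.ι p) p (kernel.condition p)).ShortExact :=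
    ShortComplex.ShortExact.mk' (ShortComplex.exact_of_f_is_kernel _ (kernelIsKernel p)) inferInstance hp
  exact isZero_R_X₃ (gZ.{u} n) (shortExact_Phi n (-1) hS) 0 (isZero_R_Phi_free n (-1) 0 (by omega) (by omega) I)
    (isZero_R_Phi n (by omega) 1 le_rfl (QCoh.isQCoh_kernel (isQCoh_coprod_structure I) hN p))

theorem isZero_R_pullback_gZ (i : ℕ) (hi : 1 ≤ i) {N : (Spec (CommRingCat.of ZZ.{u})).Modules} (hN : Coh.IsQCoh N) :
    IsZero ((R (gZ.{u} n) i).obj ((Scheme.Modules.pullback (gZ.{u} n)).obj N)) := by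
  haveI := isIso_oneHom (coord n) (coord_mem n) (coord_cover.{u} n)
  exact isZero_R_iso _ i
    (((DCoh.tensorBi (X := Proj (gr.{u} n))).mapIso (asIso (oneHom (𝒜 := gr.{u} n))).symm ≪≫
      ((KFlatLib.tensorBiFlipIso (Proj (gr.{u} n))).app (Coh.structureModule (Proj (gr.{u} n)))).symm ≪≫
      KFlatLib.tensorStructureIso (Proj (gr.{u} n))).app ((Scheme.Modules.pullback (gZ.{u} n)).obj N))
    (isZero_R_Phi n (show -(n : ℤ) ≤ 0 by omega) i hi hN)

/-- The unit at the structure module. -/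
theorem isIso_unit_structure :
    IsIso ((Scheme.Modules.pullbackPushforwardAdjunction (gZ.{u} n)).unit.app
      (Coh.structureModule (Spec (CommRingCat.of ZZ.{u})))) := by
  let adj := Scheme.Modules.pullbackPushforwardAdjunction (gZ.{u} n)
  haveI : IsIso (SheafOfModules.pullbackObjUnitToUnit (gZ.{u} n).toRingCatSheafHom) := inferInstance
  let u₀ : Coh.structureModule (Spec (CommRingCat.of ZZ.{u})) ⟶
      (Scheme.Modules.pushforward (gZ.{u} n)).obj (Coh.structureModule (Proj (gr.{u} n))) :=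
    SheafOfModules.unitToPushforwardObjUnit (gZ.{u} n).toRingCatSheafHom
  have hu : adj.unit.app _ ≫ (Scheme.Modules.pushforward (gZ.{u} n)).map
      (SheafOfModules.pullbackObjUnitToUnit (gZ.{u} n).toRingCatSheafHom) = u₀ := by
    refine (adj.homEquiv_unit _ _ _).symm.trans ?_
    exact (adj.homEquiv _ _).apply_symm_apply u₀
  haveI : IsIso u₀ := by
    have hb : Function.Bijective (u₀.app ⊤) := PnCoh.bijective_toSpecR_appTop (ι := Fin (n + 1)) (R := ZZ.{u})
    have hq : Coh.IsQCoh ((Scheme.Modules.pushforward (gZ.{u} n)).obj (Coh.structureModule (Proj (gr.{u} n)))) :=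
      QCoh.isQCoh_pushforward _ (PnCoh.isQCoh_structureModule _)
    haveI : Mono u₀ := Preadditive.mono_of_kernel_zero (IsZero.eq_of_src (by
      haveI : Subsingleton Γ(kernel u₀, ⊤) := ⟨fun a b => by
        have hinj : Function.Injective ((kernel.ι u₀).app ⊤) := by
          haveI : Mono ((Scheme.Modules.toPresheaf _).map (kernel.ι u₀)) := inferInstance
          exact (AddCommGrpCat.mono_iff_injective _).1
            (inferInstanceAs (Mono (((Scheme.Modules.toPresheaf _).map (kernel.ι u₀)).app (Opposite.op ⊤))))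
        refine hinj (hb.1 ?_)
        have h := fun x => congr(($(kernel.condition u₀)).app ⊤ x)
        exact (h a).trans (h b).symm⟩
      exact isZero_of_subsingleton_top (QCoh.isQCoh_kernel (PnCoh.isQCoh_structureModule _) hq u₀)) _ _)
    haveI : Epi u₀ := Preadditive.epi_of_cancel_zero _ fun c hc => eq_zero_of_app_top hq c fun t => by
      obtain ⟨a, rfl⟩ := hb.2 t
      exact congr(($hc).app ⊤ a)
    exact isIso_of_mono_of_epi u₀
  haveI : IsIso (adj.unit.app _ ≫ (Scheme.Modules.pushforward (gZ.{u} n)).map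
      (SheafOfModules.pullbackObjUnitToUnit (gZ.{u} n).toRingCatSheafHom)) := hu ▸ inferInstance
  exact IsIso.of_isIso_comp_right _ ((Scheme.Modules.pushforward (gZ.{u} n)).map
      (SheafOfModules.pullbackObjUnitToUnit (gZ.{u} n).toRingCatSheafHom))

/-- The unit is invertible on quasi-coherent modules. -/
theorem isIso_unit {N : (Spec (CommRingCat.of ZZ.{u})).Modules} (hN : Coh.IsQCoh N) :
    IsIso ((Scheme.Modules.pullbackPushforwardAdjunction (gZ.{u} n)).unit.app N) := by
  classical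
  let P := Scheme.Modules.pullback (gZ.{u} n) ⋙ Scheme.Modules.pushforward (gZ.{u} n)
  let η : 𝟭 _ ⟶ P := (Scheme.Modules.pullbackPushforwardAdjunction (gZ.{u} n)).unit
  haveI : HasFiniteBiproducts (Spec (CommRingCat.of ZZ.{u})).Modules := HasFiniteBiproducts.of_hasFiniteProducts
  have hfree : ∀ I : Type u, IsIso (η.app (∐ fun _ : I => Coh.structureModule (Spec (CommRingCat.of ZZ.{u})))) :=
    fun I => by
      haveI := preservesFiltered_pushforward (gZ.{u} n) (Finset (Discrete I))
      haveI : PreservesColimitsOfShape (Finset (Discrete I)) P := comp_preservesColimitsOfShape _ _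
      exact isIso_app_coprod η _ fun _ => isIso_unit_structure n
  have hP : ∀ {S : ShortComplex (Spec (CommRingCat.of ZZ.{u})).Modules}, S.ShortExact → Coh.IsQCoh S.X₁ →
      Epi (P.map S.g) := fun {S} hS h₁ => by
    haveI : (QCoh.toAbFunctor (Spec (CommRingCat.of ZZ.{u}))).Faithful :=
      inferInstanceAs (SheafOfModules.toSheaf (Spec (CommRingCat.of ZZ.{u})).ringCatSheaf).Faithful
    have h := (epi_R_zero_iff (gZ.{u} n) _).1
      (epi_R_zero (gZ.{u} n) (shortExact_pullback_gZ n hS) (isZero_R_pullback_gZ n 1 le_rfl h₁))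
    exact (QCoh.toAbFunctor _).epi_of_epi_map (f := P.map S.g) h
  have hepi : ∀ {M : (Spec (CommRingCat.of ZZ.{u})).Modules}, Coh.IsQCoh M → Epi (η.app M) := fun {M} hM => by
    obtain ⟨I, p, hp⟩ := exists_epi_free hM
    haveI := hfree I
    haveI : Epi (P.map p) := hP (S := ShortComplex.mk (kernel.ι p) p (kernel.condition p))
      (ShortComplex.ShortExact.mk' (ShortComplex.exact_of_f_is_kernel _ (kernelIsKernel p)) inferInstance hp)
      (QCoh.isQCoh_kernel (isQCoh_coprod_structure I) hM p)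
    haveI : Epi ((𝟭 _).map p ≫ η.app M) := by rw [η.naturality]; infer_instance
    exact epi_of_epi ((𝟭 _).map p) _
  show IsIso (η.app N)
  obtain ⟨I, p, hp⟩ := exists_epi_free hN
  haveI := hfree I
  haveI := hepi hN
  haveI := hepi (QCoh.isQCoh_kernel (isQCoh_coprod_structure I) hN p)
  let S := ShortComplex.mk (kernel.ι p) p (kernel.condition p)
  have hS : S.ShortExact :=
    ShortComplex.ShortExact.mk' (ShortComplex.exact_of_f_is_kernel _ (kernelIsKernel p)) inferInstance hp
  have hS' := shortExact_pullback_gZ n hS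
  haveI : (Scheme.Modules.pushforward (gZ.{u} n)).IsRightAdjoint :=
    (Scheme.Modules.pullbackPushforwardAdjunction (gZ.{u} n)).isRightAdjoint
  haveI : Epi (S.map P).g := hP hS (QCoh.isQCoh_kernel (isQCoh_coprod_structure I) hN p)
  have hP' : (S.map P).Exact :=
    ShortComplex.exact_of_f_is_kernel _ (KernelFork.mapIsLimit _ hS'.fIsKernel (Scheme.Modules.pushforward (gZ.{u} n)))
  let s : P.obj S.X₃ ⟶ S.X₃ := hP'.desc (inv (η.app S.X₂) ≫ p) (by
    show P.map (kernel.ι p) ≫ inv (η.app S.X₂) ≫ p = 0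
    rw [← cancel_epi (η.app S.X₁), comp_zero, ← Category.assoc (η.app S.X₁)]
    erw [← η.naturality (kernel.ι p)]
    rw [Category.assoc]
    erw [IsIso.hom_inv_id_assoc]
    exact kernel.condition p)
  have hs : (S.map P).g ≫ s = inv (η.app S.X₂) ≫ p := hP'.g_desc _ _
  haveI : Mono (η.app N) := by
    haveI : IsSplitMono (η.app N) := ⟨⟨⟨s, by
      rw [← cancel_epi p]
      show p ≫ η.app N ≫ s = p ≫ 𝟙 _
      rw [← Category.assoc]
      erw [η.naturality p]
      rw [Category.assoc]
      erw [hs]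
      rw [IsIso.hom_inv_id_assoc, Category.comp_id]⟩⟩⟩
    infer_instance
  exact isIso_of_mono_of_epi _

end Groth.Agent.KRRLib.Pn
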