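import Groth.Agent.KRRLib.Pn.RegK

/-!
# The push-forward `K(P^n_T) ⟶ K(T)`
-/

set_option autoImplicit false
set_option linter.style.haveILetI false
set_option backward.isDefEq.respectTransparency false
set_option backward.isDefEq.respectTransparency.types false

universe v u

open CategoryTheory CategoryTheory.Limits AlgebraicGeometry TopologicalSpace

namespace Groth.Agent.KRRLib.Pn

open Groth.Agent

theorem shortExact_push_of_isZero {X Y : Scheme.{u}} (f : X ⟶ Y) {S : ShortComplex X.Modules} (hS : S.ShortExact)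
    (h₁ : IsZero ((R f 1).obj S.X₁)) : (S.map (Scheme.Modules.pushforward f)).ShortExact := by
  haveI : (QCoh.toAbFunctor Y).Faithful :=
    inferInstanceAs (SheafOfModules.toSheaf Y.ringCatSheaf).Faithful
  haveI : (Scheme.Modules.pushforward f).IsRightAdjoint :=
    (Scheme.Modules.pullbackPushforwardAdjunction f).isRightAdjoint
  haveI := hS.mono_f
  haveI : Mono (S.map (Scheme.Modules.pushforward f)).f :=
    inferInstanceAs (Mono ((Scheme.Modules.pushforward f).map S.f))
  haveI : Epi (S.map (Scheme.Modules.pushforward f)).g :=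
    (QCoh.toAbFunctor Y).epi_of_epi_map (f := (Scheme.Modules.pushforward f).map S.g)
      ((epi_R_zero_iff f _).1 (epi_R_zero f hS h₁))
  exact ShortComplex.ShortExact.mk' (ShortComplex.exact_of_f_is_kernel _
    (KernelFork.mapIsLimit _ hS.fIsKernel (Scheme.Modules.pushforward f))) inferInstance inferInstance

variable (n : ℕ) (T : Scheme.{u}) [IsNoetherian T]

theorem isFinLocFree_push_of_reg {F : (KRR.PY n T).Modules} (hF : FlatMod.IsFinLocFree F)
    (hr : KRR.IsRegSheaf n T F) : FlatMod.IsFinLocFree ((Scheme.Modules.pushforward (KRR.pr n T)).obj F) :=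
  isFinLocFree_push_of_isZero hF fun i hi => isZero_R_of_reg hr i hi

/-- `[F] ↦ [pr_* F]`. -/
theorem exists_pushK :
    ∃ g : SGA6.Kvb (KRR.PY n T) →+ SGA6.Kvb T, ∀ F : (KRR.PY n T).Modules, FlatMod.IsFinLocFree F →
      KRR.IsRegSheaf n T F →
      g (KRR.cl (KRR.PY n T) F) = KRR.cl T ((Scheme.Modules.pushforward (KRR.pr n T)).obj F) := by
  have h : ∀ M : (KRR.PY n T).Modules, FlatMod.IsFinLocFree M ∧ KRR.IsRegSheaf n T M → FlatMod.IsFinLocFree M :=
    fun M hM => hM.1
  let Φ := SGA6.mapSub (𝟭 (KRR.PY n T).Modules) (regP n T) (KRR.vbP (KRR.PY n T)) h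
  obtain ⟨g, hg⟩ := KZ.exists_liftSub (regP n T)
    (fun F => KRR.cl T ((Scheme.Modules.pushforward (KRR.pr n T)).obj F)) fun S hS h1 h2 h3 =>
      cl_ses (shortExact_push_of_isZero _ hS (isZero_R_of_reg h1.2 1 le_rfl))
        (isFinLocFree_push_of_reg n T h1.1 h1.2) (isFinLocFree_push_of_reg n T h2.1 h2.2)
        (isFinLocFree_push_of_reg n T h3.1 h3.2)
  refine ⟨g.comp (AddEquiv.ofBijective Φ (bijective_mapSub h)).symm.toAddMonoidHom, fun F hF hr => ?_⟩
  have e : Φ (KZero.clSub (regP n T) F) = KRR.cl (KRR.PY n T) F := mapSub_clSub _ _ _ h ⟨hF, hr⟩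
  simp only [AddMonoidHom.coe_comp, AddEquiv.coe_toAddMonoidHom, Function.comp_apply]
  rw [← e]
  exact (congrArg g ((AddEquiv.ofBijective Φ (bijective_mapSub h)).symm_apply_apply _)).trans (hg F ⟨hF, hr⟩)

variable {n T}

/-- An additive map on `K(P^n_T)` is determined by regular bundles. -/
theorem hom_ext_reg {K : Type v} [AddCommGroup K] {φ : SGA6.Kvb (KRR.PY n T) →+ K} (hφ : Function.Bijective φ)
    {G : Type*} [AddCommGroup G] {g g' : K →+ G}
    (h : ∀ F : (KRR.PY n T).Modules, FlatMod.IsFinLocFree F → KRR.IsRegSheaf n T F →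
      g (φ (KRR.cl (KRR.PY n T) F)) = g' (φ (KRR.cl (KRR.PY n T) F))) : g = g' := by
  have hh : ∀ M : (KRR.PY n T).Modules, FlatMod.IsFinLocFree M ∧ KRR.IsRegSheaf n T M → FlatMod.IsFinLocFree M :=
    fun M hM => hM.1
  let Φ := SGA6.mapSub (𝟭 (KRR.PY n T).Modules) (regP n T) (KRR.vbP (KRR.PY n T)) hh
  have e : (g.comp φ).comp Φ = (g'.comp φ).comp Φ := KZ.K0sub_hom_ext _ fun F hF => by
    simp only [AddMonoidHom.coe_comp, Function.comp_apply]
    rw [mapSub_clSub _ _ _ hh hF]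
    exact h F hF.1 hF.2
  ext x
  obtain ⟨y, rfl⟩ := hφ.2 x
  obtain ⟨z, rfl⟩ := (bijective_mapSub hh).2 y
  exact DFunLike.congr_fun e z

theorem existsUnique_pushPr {KP : Type v} {KY : Type v} [CommRing KP] [CommRing KY]
    {φP : SGA6.Kvb (KRR.PY n T) →+ KP} {φY : SGA6.Kvb T →+ KY} (hφP : Function.Bijective φP) :
    ∃! g : KP →+ KY, KRR.IsPushPr n T φP φY g := by
  obtain ⟨g, hg⟩ := exists_pushK n T
  obtain ⟨g', hg'⟩ := exists_on_model hφP (φY.comp g)
  refine ⟨g', fun F hF hr => ?_, fun b hb => hom_ext_reg hφP fun F hF hr => ?_⟩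
  · rw [hg', AddMonoidHom.comp_apply, hg F hF hr]
  · rw [hb F hF hr, hg', AddMonoidHom.comp_apply, hg F hF hr]

end Groth.Agent.KRRLib.Pn
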