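import Groth.Agent.KRRLib.Pn.BaseChange
import Groth.Agent.KRRLib.AmpleNilp
import Groth.Agent.PnCoh.TwistH0
import Mathlib.RingTheory.MvPolynomial.Basic

/-!
# `p_K` of the line bundles `O(d)`
-/

set_option autoImplicit false
set_option linter.style.haveILetI false
set_option backward.isDefEq.respectTransparency false
set_option backward.isDefEq.respectTransparency.types false

universe v u

open CategoryTheory CategoryTheory.Limits AlgebraicGeometry TopologicalSpace MvPolynomial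

namespace Groth.Agent.KRRLib.Pn

open Groth.Agent Groth.Agent.PnCoh.Finite

variable {n : ℕ} {T : Scheme.{u}}

theorem isZero_R_twF_nat_add {F : (KRR.PY n T).Modules} {q : ℕ}
    (h : ∀ k : ℕ, IsZero ((R (KRR.pr n T) q).obj (KRR.twF n T (k : ℤ) F))) :
    IsZero ((R (KRR.pr n T) q).obj F) := by
  obtain ⟨e⟩ := twF_zero n T F
  exact isZero_R_iso _ q e (by simpa using h 0)

/-- A map which is `p_K` on regular bundles is `p_K` on bundles whose nonnegative twists have no higher direct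
images. -/
theorem pushPr_eval [IsNoetherian T] {G : Type v} [AddCommGroup G]
    (a : (KRR.PY n T).Modules → G) (b : T.Modules → G)
    (ha : ∀ F, FlatMod.IsFinLocFree F → a F = a ((tR F).obj (eB n T)) - a ((tR F).obj (eQ n T)))
    (hb : ∀ S : ShortComplex T.Modules, S.ShortExact → FlatMod.IsFinLocFree S.X₁ → FlatMod.IsFinLocFree S.X₂ →
      FlatMod.IsFinLocFree S.X₃ → b S.X₂ = b S.X₁ + b S.X₃)
    (hb' : ∀ M N : T.Modules, (M ≅ N) → FlatMod.IsFinLocFree M → b M = b N)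
    (hab : ∀ F, FlatMod.IsFinLocFree F → KRR.IsRegSheaf n T F →
      a F = b ((Scheme.Modules.pushforward (KRR.pr n T)).obj F)) :
    ∀ F : (KRR.PY n T).Modules, FlatMod.IsFinLocFree F →
      (∀ q : ℕ, 1 ≤ q → ∀ k : ℕ, IsZero ((R (KRR.pr n T) q).obj (KRR.twF n T (k : ℤ) F))) →
      a F = b ((Scheme.Modules.pushforward (KRR.pr n T)).obj F) := by
  suffices ∀ (m : ℕ) (F : (KRR.PY n T).Modules), FlatMod.IsFinLocFree F →
      KRR.IsRegSheaf n T (KRR.twF n T (m : ℤ) F) →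
      (∀ q : ℕ, 1 ≤ q → ∀ k : ℕ, IsZero ((R (KRR.pr n T) q).obj (KRR.twF n T (k : ℤ) F))) →
      a F = b ((Scheme.Modules.pushforward (KRR.pr n T)).obj F) by
    intro F hF hV
    obtain ⟨m, hm⟩ := exists_reg_twF (isCoh_of_isFinLocFree hF)
    exact this m F hF (hm m le_rfl) hV
  intro m
  induction m with
  | zero =>
    intro F hF hr _
    obtain ⟨e⟩ := twF_zero n T F
    exact hab F hF (reg_iso e (by simpa using hr))
  | succ m ih =>
    intro F hF hr hV
    obtain ⟨rb, rq⟩ := reg_twF_tensor hF hr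
    have hVB : ∀ q : ℕ, 1 ≤ q → ∀ k : ℕ,
        IsZero ((R (KRR.pr n T) q).obj (KRR.twF n T (k : ℤ) ((tR F).obj (eB n T)))) := fun q hq k => by
      haveI : PreservesColimitsOfShape (Discrete (ULift.{u} (Fin (n + 1)))) (tR F ⋙ twFun n T (k : ℤ)) :=
        comp_preservesColimitsOfShape _ _
      refine isZero_R_iso _ q (PreservesCoproduct.iso (tR F ⋙ twFun n T (k : ℤ)) _).symm
        (isZero_R_coprod _ q _ fun _ => ?_)
      obtain ⟨e⟩ := twF_twF n T (k : ℤ) 1 F
      exact isZero_R_iso _ q e.symm (isZero_R_twF_congr q (by omega) F (hV q hq (k + 1)))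
    have hVQ : ∀ q : ℕ, 1 ≤ q → ∀ k : ℕ,
        IsZero ((R (KRR.pr n T) q).obj (KRR.twF n T (k : ℤ) ((tR F).obj (eQ n T)))) := fun q hq k => by
      obtain ⟨e1⟩ := nonempty_structure_tensor F
      exact isZero_R_X₃ (KRR.pr n T) (shortExact_twFun n T (k : ℤ) (shortExact_eSC_tensor hF)) q (hVB q hq k)
        (isZero_R_iso _ _ ((twFun n T (k : ℤ)).mapIso e1).symm (hV (q + 1) (by omega) k))
    obtain ⟨e1⟩ := nonempty_structure_tensor F
    have hR : ∀ {G : (KRR.PY n T).Modules},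
        (∀ q : ℕ, 1 ≤ q → ∀ k : ℕ, IsZero ((R (KRR.pr n T) q).obj (KRR.twF n T (k : ℤ) G))) →
        FlatMod.IsFinLocFree G → FlatMod.IsFinLocFree ((Scheme.Modules.pushforward (KRR.pr n T)).obj G) :=
      fun h hG => isFinLocFree_push_of_isZero hG fun q hq => isZero_R_twF_nat_add (h q hq)
    have hS := shortExact_push_of_isZero (KRR.pr n T) (shortExact_eSC_tensor hF)
      (isZero_R_iso _ 1 e1.symm (isZero_R_twF_nat_add (hV 1 le_rfl)))
    have h1 : FlatMod.IsFinLocFree ((Scheme.Modules.pushforward (KRR.pr n T)).obj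
        ((tR F).obj (Coh.structureModule (KRR.PY n T)))) :=
      flf_iso ((Scheme.Modules.pushforward (KRR.pr n T)).mapIso e1.symm) (hR hV hF)
    rw [ha F hF, ih _ (flf_eB_tensor hF) rb hVB, ih _ (flf_eQ_tensor hF) rq hVQ, sub_eq_iff_eq_add,
      ← hb' _ _ ((Scheme.Modules.pushforward (KRR.pr n T)).mapIso e1) h1]
    exact hb _ hS h1 (hR hVB (flf_eB_tensor hF)) (hR hVQ (flf_eQ_tensor hF))

theorem isFinLocFree_structure (X : Scheme.{u}) : FlatMod.IsFinLocFree (Coh.structureModule X) :=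
  isFinLocFree_of_isInvertible InvX.isInvertible_structureModule

theorem nonempty_twF_structure (d : ℤ) :
    Nonempty (KRR.twF n T d (Coh.structureModule (KRR.PY n T)) ≅ Tw n T d) :=
  ⟨(KFlatLib.tensorStructureIso (KRR.PY n T)).app (Tw n T d)⟩

theorem isZero_R_Tw {d : ℤ} (hd : -(n : ℤ) ≤ d) (q : ℕ) (hq : 1 ≤ q) :
    IsZero ((R (KRR.pr n T) q).obj (Tw n T d)) := by
  obtain ⟨e⟩ := PicClLib.nonempty_pullback_structureModule (KRR.pr n T)
  obtain ⟨e'⟩ := nonempty_twF_structure (n := n) (T := T) d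
  exact isZero_R_iso _ q ((twFun n T d).mapIso e ≪≫ e')
    (isZero_R_pullback hd q hq (PnCoh.isQCoh_structureModule T))

theorem twF_Tw_vanish {d : ℤ} (hd : -(n : ℤ) ≤ d) (q : ℕ) (hq : 1 ≤ q) (k : ℕ) :
    IsZero ((R (KRR.pr n T) q).obj (KRR.twF n T (k : ℤ) (Tw n T d))) := by
  obtain ⟨e⟩ := exists_Tw_add n T (k : ℤ) d
  exact isZero_R_iso _ q e.symm (isZero_R_Tw (by omega) q hq)

/-- `pr_* O(-i) = 0` for `1 ≤ i ≤ n`. -/
theorem isZero_push_Tw_neg : ∀ i : ℕ, 1 ≤ i → i ≤ n →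
    IsZero ((Scheme.Modules.pushforward (KRR.pr n T)).obj (Tw n T (-(i : ℤ)))) := by
  intro i hi
  induction i, hi using Nat.le_induction with
  | base =>
    intro hn
    obtain ⟨e⟩ := PicClLib.nonempty_pullback_structureModule (KRR.pr n T)
    obtain ⟨e'⟩ := nonempty_twF_structure (n := n) (T := T) (-((1 : ℕ) : ℤ))
    obtain ⟨e₀⟩ := QCoh.nonempty_RpushAb_zero_iso (KRR.pr n T) (Tw n T (-((1 : ℕ) : ℤ)))
    have h := isZero_R_iso _ 0 ((twFun n T (-((1 : ℕ) : ℤ))).mapIso e ≪≫ e')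
      (isZero_R_twF_congr 0 (by omega) _
        (isZero_push_pullback_neg_one hn (M := Coh.structureModule T) (PnCoh.isQCoh_structureModule T)))
    have hz := h.of_iso e₀.symm
    haveI : (QCoh.toAbFunctor T).Faithful :=
      inferInstanceAs (SheafOfModules.toSheaf T.ringCatSheaf).Faithful
    rw [IsZero.iff_id_eq_zero] at hz ⊢
    exact (QCoh.toAbFunctor T).map_injective
      (((QCoh.toAbFunctor T).map_id _).trans (hz.trans ((QCoh.toAbFunctor T).map_zero _ _).symm))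
  | succ i hi ih =>
    intro hn
    let L := Tw n T (-((i + 1 : ℕ) : ℤ))
    obtain ⟨e1⟩ := nonempty_structure_tensor L
    have hL : FlatMod.IsFinLocFree L := isFinLocFree_of_isInvertible (isInvertible_Tw n T _)
    haveI := (shortExact_eSC_tensor hL).mono_f
    haveI : Mono ((eSC n T).map (tR L)).f := (shortExact_eSC_tensor hL).mono_f
    haveI : (Scheme.Modules.pushforward (KRR.pr n T)).IsRightAdjoint :=
      (Scheme.Modules.pullbackPushforwardAdjunction (KRR.pr n T)).isRightAdjoint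
    have hB : IsZero ((Scheme.Modules.pushforward (KRR.pr n T)).obj ((tR L).obj (eB n T))) := by
      classical
      haveI : PreservesColimitsOfShape (Discrete (ULift.{u} (Fin (n + 1)))) (tR L) := inferInstance
      haveI := preservesFiltered_pushforward (KRR.pr n T) (Finset (Discrete (ULift.{u} (Fin (n + 1)))))
      haveI : HasFiniteBiproducts (KRR.PY n T).Modules := HasFiniteBiproducts.of_hasFiniteProducts
      refine (isZero_coprod (Scheme.Modules.pushforward (KRR.pr n T)) _ fun _ => ?_).of_iso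
        ((Scheme.Modules.pushforward (KRR.pr n T)).mapIso (PreservesCoproduct.iso (tR L) _))
      obtain ⟨e⟩ := exists_Tw_add n T 1 (-((i + 1 : ℕ) : ℤ))
      exact (ih (by omega)).of_iso ((Scheme.Modules.pushforward (KRR.pr n T)).mapIso
        (e ≪≫ eqToIso (congrArg (Tw n T) (by omega))))
    exact (IsZero.of_mono ((Scheme.Modules.pushforward (KRR.pr n T)).map ((eSC n T).map (tR L)).f) hB).of_iso
      ((Scheme.Modules.pushforward (KRR.pr n T)).mapIso e1.symm)

theorem gamma_iso {X Y : Scheme.{u}} (f : X ⟶ Y) [IsIso f] (M : Y.Modules) :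
    Nonempty (Γ((Scheme.Modules.pullback f).obj M, ⊤) ≃+ Γ(M, ⊤)) := by
  have h : ∀ V : Y.Opens, f ''ᵁ ⊤ = V → Nonempty (Γ(M.restrict f, ⊤) ≃+ Γ(M, V)) := by
    rintro V rfl
    exact ⟨AddEquiv.refl _⟩
  obtain ⟨a⟩ := h ⊤ ((Scheme.Hom.image_top_eq_opensRange f).trans
    (Opens.ext (Set.range_eq_univ.2 (ConcreteCategory.bijective_of_isIso f.base).2)))
  have hb : Function.Bijective (((Scheme.Modules.restrictFunctorIsoPullback f).app M).inv.app ⊤) :=
    ConcreteCategory.bijective_of_isIso _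
  exact ⟨(AddEquiv.ofBijective ((((Scheme.Modules.restrictFunctorIsoPullback f).app M).inv.app ⊤).hom) hb).trans a⟩

theorem card_degree (m : ℕ) :
    Nonempty (↥(homogeneousSubmodule (Fin (n + 1)) ZZ.{u} m) ≃ₗ[ZZ.{u}]
      (ULift.{u} (Fin ((n + m).choose m)) →₀ ZZ.{u})) := by
  classical
  let S : Set (Fin (n + 1) →₀ ℕ) := {e | e.degree = m}
  let e : {a // a ∈ (Finset.univ : Finset (Fin (n + 1))).finsuppAntidiag m} ≃ S :=
    Equiv.subtypeEquivRight fun a => by simp [S, Finset.mem_finsuppAntidiag, Finsupp.degree_eq_sum]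
  haveI : Fintype S := Fintype.ofEquiv _ e
  let φ : homogeneousSubmodule (Fin (n + 1)) ZZ.{u} m ≃ₗ[ZZ.{u}] (S →₀ ZZ.{u}) :=
    (LinearEquiv.ofEq _ _ (homogeneousSubmodule_eq_finsupp_supported (σ := Fin (n + 1)) (R := ZZ.{u}) m)).trans
      (AddMonoidAlgebra.supportedEquivFinsupp S)
  have hc : Fintype.card S = (n + m).choose m := by
    rw [← Fintype.card_congr e, Fintype.card_coe, Finset.card_finsuppAntidiag_nat_eq_choose, Finset.card_univ,
      Fintype.card_fin]
    congr 1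
    omega
  exact ⟨φ.trans (Finsupp.domLCongr (((Fintype.equivFin S).trans (finCongr hc)).trans Equiv.ulift.symm))⟩

theorem linear_of_int {A M N : Type*} [CommRing A] [AddCommGroup M] [Module A M] [AddCommGroup N] [Module A N]
    (hA : Function.Surjective (Int.cast : ℤ → A)) (g : M ≃+ N) : Nonempty (M ≃ₗ[A] N) :=
  ⟨g.toLinearEquiv fun r x => by
      obtain ⟨k, rfl⟩ := hA r
      simp [Int.cast_smul_eq_zsmul]⟩

theorem int_cast_surjective_gamma :
    Function.Surjective (Int.cast : ℤ → Γ(Spec (CommRingCat.of ZZ.{u}), ⊤)) := fun r => by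
  let e : Γ(Spec (CommRingCat.of ZZ.{u}), ⊤) ≃+* ℤ :=
    (Scheme.ΓSpecIso (CommRingCat.of ZZ.{u})).commRingCatIsoToRingEquiv.trans (ULift.ringEquiv : ZZ.{u} ≃+* ℤ)
  exact ⟨e r, e.injective (by rw [map_intCast]; simp)⟩

instance isNoetherian_specZZ : IsNoetherian (Spec (CommRingCat.of ZZ.{u})) := by
  haveI : IsNoetherianRing ZZ.{u} := isNoetherianRing_of_ringEquiv ℤ (ULift.ringEquiv : ZZ.{u} ≃+* ℤ).symm
  infer_instance

instance isIso_toZ_specZZ : IsIso (toZ (Spec (CommRingCat.of ZZ.{u}))) := by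
  rw [show toZ (Spec (CommRingCat.of ZZ.{u})) = 𝟙 _ from specULiftZIsTerminal.hom_ext _ _]
  infer_instance

instance isIso_fstZ_specZZ : IsIso (fstZ n (Spec (CommRingCat.of ZZ.{u}))) := by
  haveI : IsIso (specULiftZIsTerminal.from (Spec (CommRingCat.of ZZ.{u}))) := isIso_toZ_specZZ
  exact inferInstanceAs (IsIso (pullback.fst _ _))

theorem reg_twF_structure (m : ℕ) :
    KRR.IsRegSheaf n T (Tw n T (m : ℤ)) := by
  refine reg_iff.2 fun i hi => ?_
  obtain ⟨e⟩ := exists_Tw_add n T (-(i : ℤ)) (m : ℤ)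
  rcases Nat.lt_or_ge n i with h | h
  · exact isZero_R_top (isQCoh_twF n T _ (QCoh.isQCoh_of_isFinLocFree
      (isFinLocFree_of_isInvertible (isInvertible_Tw n T _)))) i h
  · exact isZero_R_iso _ i e.symm (isZero_R_Tw (by omega) i hi)

theorem nonempty_push_Tw_base (m : ℕ) :
    Nonempty ((Scheme.Modules.pushforward (KRR.pr n (Spec (CommRingCat.of ZZ.{u})))).obj
      (Tw n (Spec (CommRingCat.of ZZ.{u})) (m : ℤ)) ≅
        FlatMod.freeMod (Spec (CommRingCat.of ZZ.{u})) ((n + m).choose m)) := by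
  let S₀ := Spec (CommRingCat.of ZZ.{u})
  have hM : Coh.IsQCoh ((Scheme.Modules.pushforward (KRR.pr n S₀)).obj (Tw n S₀ (m : ℤ))) :=
    QCoh.isQCoh_pushforward _ (QCoh.isQCoh_of_isFinLocFree
      (isFinLocFree_of_isInvertible (isInvertible_Tw n S₀ _)))
  obtain ⟨a⟩ := gamma_iso (fstZ n S₀) (Twist.twist (gr.{u} n) (m : ℤ))
  let g : ↥(homogeneousSubmodule (Fin (n + 1)) ZZ.{u} m) ≃+ PnCoh.TwTop (Fin (n + 1)) ZZ.{u} (m : ℤ) :=
    { PnCoh.globalOfEquiv with map_add' := PnCoh.globalOf_add }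
  obtain ⟨c⟩ := card_degree (n := n) m
  let b : Γ((Scheme.Modules.pushforward (KRR.pr n S₀)).obj (Tw n S₀ (m : ℤ)), ⊤) ≃+
      (ULift.{u} (Fin ((n + m).choose m)) →₀ Γ(S₀, ⊤)) :=
    (show Γ(Tw n S₀ (m : ℤ), ⊤) ≃+ ↥(homogeneousSubmodule (Fin (n + 1)) ZZ.{u} m) from a.trans g.symm).trans
      (c.toAddEquiv.trans (Finsupp.mapRange.addEquiv
        (Scheme.ΓSpecIso (CommRingCat.of ZZ.{u})).commRingCatIsoToRingEquiv.symm.toAddEquiv))
  obtain ⟨l⟩ := linear_of_int int_cast_surjective_gamma b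
  obtain ⟨e⟩ := QCoh.exists_free_restrict hM (isAffineOpen_top S₀) l
  let U : S₀.Opens := ⊤
  haveI : IsIso U.ι := inferInstanceAs (IsIso S₀.topIso.hom)
  let V := (Scheme.Modules.pushforward (KRR.pr n S₀)).obj (Tw n S₀ (m : ℤ))
  exact ⟨(Scheme.Modules.pullbackId S₀).symm.app V ≪≫
    (Scheme.Modules.pullbackCongr (IsIso.inv_hom_id U.ι).symm).app V ≪≫
    ((Scheme.Modules.pullbackComp (inv U.ι) U.ι).app V).symm ≪≫
    (Scheme.Modules.pullback (inv U.ι)).mapIso (((Scheme.Modules.restrictFunctorIsoPullback U.ι).app V).symm ≪≫ e) ≪≫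
    KFlatLib.pullFreeIso _ _⟩

/-- **`pr_* O(m)` is free.** -/
theorem nonempty_push_Tw (m : ℕ) :
    Nonempty ((Scheme.Modules.pushforward (KRR.pr n T)).obj (Tw n T (m : ℤ)) ≅
      FlatMod.freeMod T ((n + m).choose m)) := by
  let S₀ := Spec (CommRingCat.of ZZ.{u})
  haveI := isIso_bcMap (toZ T) (psi_pr (toZ T))
    (isFinLocFree_of_isInvertible (isInvertible_Tw n S₀ (m : ℤ))) (reg_twF_structure (n := n) m)
  obtain ⟨e⟩ := nonempty_push_Tw_base.{u} (n := n) m
  exact ⟨(Scheme.Modules.pushforward (KRR.pr n T)).mapIso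
      ((Scheme.Modules.pullbackComp _ _).app _ ≪≫ (Scheme.Modules.pullbackCongr (psi_fstZ (n := n) (toZ T))).app _).symm ≪≫
    (asIso (KRR.bcMap n (toZ T) (psi_pr (toZ T)) (Tw n S₀ (m : ℤ)))).symm ≪≫
    (Scheme.Modules.pullback (toZ T)).mapIso e ≪≫ KFlatLib.pullFreeIso _ _⟩

end Groth.Agent.KRRLib.Pn

namespace Groth.Agent.KRRLib.Pn

open Groth.Agent

variable {n : ℕ} {T : Scheme.{u}} [IsNoetherian T] {KP : Type v} {KY : Type v} [CommRing KP] [CommRing KY]
  {φP : SGA6.Kvb (KRR.PY n T) →+ KP} {φY : SGA6.Kvb T →+ KY} {g : KP →+ KY}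

/-- `p_K` on bundles whose nonnegative twists have no higher direct images. -/
theorem isPushPr_eval (hg : KRR.IsPushPr n T φP φY g) (F : (KRR.PY n T).Modules) (hF : FlatMod.IsFinLocFree F)
    (hV : ∀ q : ℕ, 1 ≤ q → ∀ k : ℕ, IsZero ((R (KRR.pr n T) q).obj (KRR.twF n T (k : ℤ) F))) :
    g (φP (KRR.cl (KRR.PY n T) F)) = φY (KRR.cl T ((Scheme.Modules.pushforward (KRR.pr n T)).obj F)) :=
  pushPr_eval (fun F => g (φP (KRR.cl (KRR.PY n T) F))) (fun M => φY (KRR.cl T M))
    (fun F hF => by rw [← map_sub, ← map_sub, ← cl_eq_sub hF])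
    (fun S hS h1 h2 h3 => by rw [← map_add, cl_ses hS h1 h2 h3])
    (fun M N e h => by rw [cl_iso e h]) hg F hF hV

/-- `p_K [O(d)]` for `-n ≤ d`. -/
theorem isPushPr_twist (hg : KRR.IsPushPr n T φP φY g) (d : ℤ) (hd : -(n : ℤ) ≤ d) :
    g (φP (KRR.cl (KRR.PY n T) (KRR.twF n T d (Coh.structureModule (KRR.PY n T))))) =
      φY (KRR.cl T ((Scheme.Modules.pushforward (KRR.pr n T)).obj (Tw n T d))) := by
  obtain ⟨e⟩ := nonempty_twF_structure (n := n) (T := T) d
  rw [cl_iso e (isFinLocFree_twF d (isFinLocFree_structure _))]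
  exact isPushPr_eval hg _ (isFinLocFree_of_isInvertible (isInvertible_Tw n T d))
    fun q hq k => twF_Tw_vanish hd q hq k

end Groth.Agent.KRRLib.Pn
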