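import Groth.Agent.KRRLib.Pn.Twist
import Groth.Agent.PnCoh.Finite.HomTwist

/-!
# Multiplication by two coordinates differ by their ratio
-/

set_option autoImplicit false
set_option backward.isDefEq.respectTransparency false
set_option backward.isDefEq.respectTransparency.types false

universe u

open CategoryTheory CategoryTheory.Limits AlgebraicGeometry TopologicalSpace MonoidalCategory Opposite
open scoped TensorProduct

namespace Groth.Agent.KRRLib.Pn

open Groth.Agent Groth.Agent.KFlatLib Groth.Agent.PnCoh.Finite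

section Smul

theorem extendScalars_map_smul {R S : Type u} [CommRing R] [CommRing S] (φ : R →+* S)
    {M N : ModuleCat.{u} R} (c : R) (h : M ⟶ N) :
    (ModuleCat.extendScalars φ).map (c • h) = φ c • (ModuleCat.extendScalars φ).map h := by
  letI := φ.toAlgebra
  refine ModuleCat.ExtendScalars.hom_ext fun m => ?_
  show (1 : S) ⊗ₜ[R] (c • h.hom m) = φ c • ((1 : S) ⊗ₜ[R] h.hom m)
  rw [← TensorProduct.smul_tmul, TensorProduct.smul_tmul']
  exact congrArg (· ⊗ₜ[R] h.hom m) (Algebra.smul_def c (1 : S))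

theorem map_eq_smul_of_iso {C : Type*} [Category C] {R : Type u} [CommRing R]
    {F G : C ⥤ ModuleCat.{u} R} (e : F ≅ G) {A B : C} {a b : A ⟶ B} (c : R)
    (h : G.map a = c • G.map b) : F.map a = c • F.map b := by
  rw [← NatIso.naturality_2 e a, ← NatIso.naturality_2 e b, h, Linear.smul_comp, Linear.comp_smul]

theorem stalkP_eq_smul {X : Scheme.{u}} {P Q : CohB1.PMod X} (φ ψ : P ⟶ Q) {U : X.Opens} {x : X}
    (hx : x ∈ U) (c : Γ(X, U))
    (h : ∀ (V : X.Opens) (hV : V ≤ U) (s : P.obj (op V)),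
      φ.app (op V) s = sm (X.presheaf.map (homOfLE hV).op c) (ψ.app (op V) s)) :
    (stalkP x).map φ = X.presheaf.germ U x hx c • (stalkP x).map ψ := by
  refine stalkMod_ext fun V hV s => ?_
  show stalkModMap φ (germP P V hV s) = X.presheaf.germ U x hx c • stalkModMap ψ (germP P V hV s)
  rw [← germP_res (homOfLE (inf_le_right : U ⊓ V ≤ V)) (show x ∈ U ⊓ V from ⟨hx, hV⟩), stalkModMap_germ,
    stalkModMap_germ, h _ inf_le_left, germP_smul, X.presheaf.germ_res_apply]

end Smul

section ProjLevel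

variable {R A : Type u} [CommRing R] [CommRing A] [Algebra R A]
  {𝒜 : ℕ → Submodule R A} [GradedAlgebra 𝒜] {a b : A} (ha : a ∈ 𝒜 1) (hb : b ∈ 𝒜 1)

theorem stalkP_xHom_ratio {x : Proj 𝒜} (hx : x ∈ D 𝒜 a) (d : ℤ) :
    (stalkP x).map (DCoh.toP.map (ProjShift.xHom hb d)) =
      (Proj 𝒜).presheaf.germ (D 𝒜 a) x hx (ratio ha hb) •
        (stalkP x).map (DCoh.toP.map (ProjShift.xHom ha d)) := by
  refine stalkP_eq_smul _ _ hx _ fun V hV s => ?_
  refine Subtype.ext (funext fun y => Subtype.ext ?_)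
  show (s.1 y).1 * ProjShift.frac y.1 b = ((rr ha hb hV).1 y).val * ((s.1 y).1 * ProjShift.frac y.1 a)
  rw [rr_val ha hb hV y, mul_left_comm, ProjShift.frac, ProjShift.frac, Localization.mk_mul, mul_one]
  refine congrArg ((s.1 y).1 * ·) ?_
  rw [Localization.mk_eq_mk_iff, Localization.r_iff_exists]
  exact ⟨1, by simp [mul_comm]⟩

end ProjLevel

variable (n : ℕ) (T : Scheme.{u})

/-- The ratio of two coordinates on a chart. -/
noncomputable def rho (i j : ULift.{u} (Fin (n + 1))) : Γ(KRR.PY n T, chart n T i) :=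
  (fstZ n T).app _ (ratio (coord_mem n i) (coord_mem n j))

theorem basicOpen_rho (i j : ULift.{u} (Fin (n + 1))) :
    (KRR.PY n T).basicOpen (rho n T i j) = chart n T i ⊓ chart n T j := by
  rw [rho, ← Scheme.preimage_basicOpen, basicOpen_ratio]
  rfl

theorem stalk_xTw_rho {i j : ULift.{u} (Fin (n + 1))} {y : KRR.PY n T} (hy : y ∈ chart n T i) (d : ℤ) :
    (DerSch.stalkFunctor (KRR.PY n T) y).map (xTw n T j d) =
      (KRR.PY n T).presheaf.germ (chart n T i) y hy (rho n T i j) •
        (DerSch.stalkFunctor (KRR.PY n T) y).map (xTw n T i d) := by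
  refine map_eq_smul_of_iso (stalkPullbackIso (fstZ n T) y) _ ?_
  show (ModuleCat.extendScalars _).map _ = _ • (ModuleCat.extendScalars _).map _
  rw [map_eq_smul_of_iso (stalkToPIso (fstZ n T y)) _
    (stalkP_xHom_ratio (coord_mem n i) (coord_mem n j) (show fstZ n T y ∈ _ from hy) d), extendScalars_map_smul]
  refine congrArg (· • _) ?_
  exact Scheme.Hom.germ_stalkMap_apply (fstZ n T) _ y hy _

theorem stalk_xF_rho (F : (KRR.PY n T).Modules) {i j : ULift.{u} (Fin (n + 1))} {y : KRR.PY n T}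
    (hy : y ∈ chart n T i) (d : ℤ) :
    (DerSch.stalkFunctor (KRR.PY n T) y).map (xF n T F j d) =
      (KRR.PY n T).presheaf.germ (chart n T i) y hy (rho n T i j) •
        (DerSch.stalkFunctor (KRR.PY n T) y).map (xF n T F i d) := by
  refine map_eq_smul_of_iso (stalkTensorRightIso F y) _ ?_
  show (tensorRight _).map ((DerSch.stalkFunctor (KRR.PY n T) y).map (xTw n T j d)) = _
  rw [stalk_xTw_rho n T hy d]
  exact MonoidalLinear.smul_whiskerRight _ _ _

/-- On the `i`-th chart multiplication by `x j` is `x j / x i` times multiplication by `x i`. -/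
theorem xF_app_rho (F : (KRR.PY n T).Modules) {i : ULift.{u} (Fin (n + 1))} (j : ULift.{u} (Fin (n + 1)))
    {W : (KRR.PY n T).Opens} (hW : W ≤ chart n T i) (d : ℤ) (s : Γ(KRR.twF n T (d - 1) F, W)) :
    (xF n T F j d).app W s =
      (KRR.PY n T).presheaf.map (homOfLE hW).op (rho n T i j) • (xF n T F i d).app W s := by
  refine TopCat.Presheaf.section_ext (QCoh.toAbFunctor _ |>.obj (KRR.twF n T d F)) W _ _ fun y hy => ?_
  let s' : (DCoh.toP.obj (KRR.twF n T (d - 1) F)).obj (op W) := s
  have h1 : ∀ φ : KRR.twF n T (d - 1) F ⟶ KRR.twF n T d F,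
      (DerSch.stalkFunctor (KRR.PY n T) y).map φ (germP (DCoh.toP.obj _) W hy s') =
        germP (DCoh.toP.obj (KRR.twF n T d F)) W hy (φ.app W s) := fun φ =>
    DerSch.stalkFunctor_map_germ y φ W hy s
  show germP (DCoh.toP.obj (KRR.twF n T d F)) W hy ((xF n T F j d).app W s) =
    germP (DCoh.toP.obj (KRR.twF n T d F)) W hy (sm _ ((xF n T F i d).app W s))
  rw [germP_smul, ← h1, ← h1, stalk_xF_rho n T F (hW hy) d, TopCat.Presheaf.germ_res_apply]
  rfl

end Groth.Agent.KRRLib.Pn
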