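import Groth.Agent.S2390
import Groth.Agent.VarBase.RpushEuler
import Groth.Agent.ParLib.FibreBound
import Groth.Agent.KRRLib.Pn.Local
import Groth.Agent.KRRLib.Pn.Reg

/-!
# Direct images of locally free modules without higher direct images
-/

set_option autoImplicit false
set_option linter.style.haveILetI false
set_option backward.isDefEq.respectTransparency false
set_option backward.isDefEq.respectTransparency.types false

universe u

open CategoryTheory CategoryTheory.Limits AlgebraicGeometry TopologicalSpace

namespace Groth.Agent.KRRLib.Pn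

open Groth.Agent

variable {n : ℕ} {T : Scheme.{u}}

theorem isLocallyNoetherian_PY [IsLocallyNoetherian T] : IsLocallyNoetherian (KRR.PY n T) :=
  LocallyOfFiniteType.isLocallyNoetherian (KRR.pr n T)

/-- Finite locally free modules without higher direct images have finite locally free direct images. -/
theorem isFinLocFree_push_of_isZero [IsNoetherian T] {F : (KRR.PY n T).Modules} (hF : FlatMod.IsFinLocFree F)
    (hR : ∀ i : ℕ, 1 ≤ i → IsZero ((R (KRR.pr n T) i).obj F)) :
    FlatMod.IsFinLocFree ((Scheme.Modules.pushforward (KRR.pr n T)).obj F) := by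
  haveI := isLocallyNoetherian_PY (n := n) (T := T)
  haveI : CompactSpace (KRR.PY n T) := QuasiCompact.compactSpace_of_compactSpace (KRR.pr n T)
  haveI : IsNoetherian (KRR.PY n T) := ⟨⟩
  have h := (S2390.result (KRR.pr n T) F (QCoh.isCoh_iff_isFP.2 (QCoh.isFP_of_isFinLocFree hF))
    (ParLib.isFlatOver_of_isFinLocFree _ hF) fun i hi => by
      obtain ⟨q, rfl⟩ : ∃ q, i = q + 1 := ⟨i - 1, by omega⟩
      exact VarBase.isZero_Rpush_of_Ab (KRR.pr n T) q (hR (q + 1) (by omega))).2
  intro y
  obtain ⟨U, hy, e⟩ := h y
  exact ⟨U, _, hy, e⟩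

end Groth.Agent.KRRLib.Pn
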