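import Groth.Agent.KRRLib.Pn.Euler
import Groth.Agent.KRRLib.Kvb

/-!
# `K₀` of regular bundles is `K₀` of all bundles
-/

set_option autoImplicit false
set_option linter.style.haveILetI false
set_option backward.isDefEq.respectTransparency false
set_option backward.isDefEq.respectTransparency.types false

universe u

open CategoryTheory CategoryTheory.Limits AlgebraicGeometry TopologicalSpace ZeroObject

namespace Groth.Agent.KRRLib.Pn

open Groth.Agent

variable (n : ℕ) (T : Scheme.{u})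

/-- Regular bundles. -/
abbrev regP : ObjectProperty (KRR.PY n T).Modules :=
  fun M : (KRR.PY n T).Modules => FlatMod.IsFinLocFree M ∧ KRR.IsRegSheaf n T M

/-- The class of a bundle whose `m`-th twist is regular. -/
noncomputable def Phi0 : ℕ → (KRR.PY n T).Modules → KZero.K0sub (regP n T)
  | 0, F => KZero.clSub (regP n T) F
  | m + 1, F => Phi0 m ((tR F).obj (eB n T)) - Phi0 m ((tR F).obj (eQ n T))

variable {n T}

theorem flf_eB_tensor {F : (KRR.PY n T).Modules} (hF : FlatMod.IsFinLocFree F) :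
    FlatMod.IsFinLocFree ((tR F).obj (eB n T)) :=
  KFlatLib.isFinLocFree_tensor (isFinLocFree_eB n T) hF

theorem flf_eQ_tensor {F : (KRR.PY n T).Modules} (hF : FlatMod.IsFinLocFree F) :
    FlatMod.IsFinLocFree ((tR F).obj (eQ n T)) :=
  KFlatLib.isFinLocFree_tensor (isFinLocFree_eQ n T) hF

theorem regP_zero : regP n T (0 : (KRR.PY n T).Modules) :=
  ⟨flf_zero _, reg_iff.2 fun i _ =>
    isZero_R_of_isZero _ i ((twFun n T (-(i : ℤ))).map_isZero (isZero_zero _))⟩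

theorem reg_twF_up {F : (KRR.PY n T).Modules} {m : ℕ} (h : KRR.IsRegSheaf n T (KRR.twF n T (m : ℤ) F)) (k : ℕ) :
    KRR.IsRegSheaf n T (KRR.twF n T ((m + k : ℕ) : ℤ) F) := by
  obtain ⟨e⟩ := twF_twF n T (k : ℤ) (m : ℤ) F
  have e' : ((k : ℤ) + (m : ℤ)) = ((m + k : ℕ) : ℤ) := by omega
  exact e' ▸ reg_iso e (reg_twF h k)

theorem reg_twF_tensor {F : (KRR.PY n T).Modules} (hF : FlatMod.IsFinLocFree F) {m : ℕ}
    (h : KRR.IsRegSheaf n T (KRR.twF n T ((m + 1 : ℕ) : ℤ) F)) :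
    KRR.IsRegSheaf n T (KRR.twF n T (m : ℤ) ((tR F).obj (eB n T))) ∧
      KRR.IsRegSheaf n T (KRR.twF n T (m : ℤ) ((tR F).obj (eQ n T))) := by
  obtain ⟨e⟩ := twF_twF n T 1 (m : ℤ) F
  have e' : (1 + (m : ℤ)) = ((m + 1 : ℕ) : ℤ) := by omega
  have h' : KRR.IsRegSheaf n T (KRR.twF n T 1 (KRR.twF n T (m : ℤ) F)) := reg_iso e.symm (e'.symm ▸ h)
  obtain ⟨eb⟩ := nonempty_twF_tensor (m : ℤ) (eB n T) F
  obtain ⟨eq⟩ := nonempty_twF_tensor (m : ℤ) (eQ n T) F
  exact ⟨reg_iso eb.symm (reg_eB_tensor h'), reg_iso eq.symm (reg_eQ_tensor (isFinLocFree_twF _ hF) h')⟩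

/-- One step does not change the class. -/
theorem Phi0_succ : ∀ (m : ℕ) (F : (KRR.PY n T).Modules), FlatMod.IsFinLocFree F →
    KRR.IsRegSheaf n T (KRR.twF n T (m : ℤ) F) → Phi0 n T (m + 1) F = Phi0 n T m F := by
  intro m
  induction m with
  | zero =>
    intro F hF h
    obtain ⟨e⟩ := twF_zero n T F
    have hreg : KRR.IsRegSheaf n T F := reg_iso e (by simpa using h)
    obtain ⟨e1⟩ := nonempty_structure_tensor F
    have h1 : regP n T F := ⟨hF, hreg⟩
    have h1' : regP n T ((tR F).obj (Coh.structureModule (KRR.PY n T))) :=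
      ⟨flf_iso e1.symm hF, reg_iso e1.symm hreg⟩
    have hB : regP n T ((tR F).obj (eB n T)) := ⟨flf_eB_tensor hF, reg_eB_tensor (reg_twF hreg 1)⟩
    have hQ : regP n T ((tR F).obj (eQ n T)) := ⟨flf_eQ_tensor hF, reg_eQ_tensor hF (reg_twF hreg 1)⟩
    have hc := KZ.clSub_ses (regP n T) (shortExact_eSC_tensor hF) h1' hB hQ
    have hc' := KZ.clSub_iso (regP n T) e1 h1' h1 (isZero_zero _) regP_zero
    show KZero.clSub (regP n T) _ - KZero.clSub (regP n T) _ = KZero.clSub (regP n T) F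
    rw [sub_eq_iff_eq_add, ← hc']
    exact hc
  | succ m ih =>
    intro F hF h
    obtain ⟨hb, hq⟩ := reg_twF_tensor hF h
    show Phi0 n T (m + 1) _ - Phi0 n T (m + 1) _ = Phi0 n T m _ - Phi0 n T m _
    rw [ih _ (flf_eB_tensor hF) hb, ih _ (flf_eQ_tensor hF) hq]

theorem Phi0_add {F : (KRR.PY n T).Modules} (hF : FlatMod.IsFinLocFree F) {m : ℕ}
    (h : KRR.IsRegSheaf n T (KRR.twF n T (m : ℤ) F)) (k : ℕ) : Phi0 n T (m + k) F = Phi0 n T m F := by
  induction k with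
  | zero => rfl
  | succ k ih => rw [← ih]; exact Phi0_succ (m + k) F hF (reg_twF_up h k)

theorem shortExact_tensor_left {M : (KRR.PY n T).Modules} (hM : FlatMod.IsFinLocFree M)
    {S : ShortComplex (KRR.PY n T).Modules} (hS : S.ShortExact) :
    (S.map ((DCoh.tensorBi (X := KRR.PY n T)).obj M)).ShortExact := by
  have h := KFlatLib.flatObj_of_isFlat (QCoh.isFlat_and_isFP_iff.2 hM).1 S hS
  exact ShortComplex.shortExact_of_iso (S.mapNatIso ((KFlatLib.tensorBiFlipIso (KRR.PY n T)).app M)) h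

theorem Phi0_ses : ∀ (m : ℕ) (S : ShortComplex (KRR.PY n T).Modules), S.ShortExact →
    FlatMod.IsFinLocFree S.X₁ → FlatMod.IsFinLocFree S.X₂ → FlatMod.IsFinLocFree S.X₃ →
    KRR.IsRegSheaf n T (KRR.twF n T (m : ℤ) S.X₁) → KRR.IsRegSheaf n T (KRR.twF n T (m : ℤ) S.X₂) →
    KRR.IsRegSheaf n T (KRR.twF n T (m : ℤ) S.X₃) →
    Phi0 n T m S.X₂ = Phi0 n T m S.X₁ + Phi0 n T m S.X₃ := by
  intro m
  induction m with
  | zero =>
    intro S hS h1 h2 h3 r1 r2 r3
    have hr : ∀ {F : (KRR.PY n T).Modules}, KRR.IsRegSheaf n T (KRR.twF n T ((0 : ℕ) : ℤ) F) →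
        KRR.IsRegSheaf n T F := fun {F} h => by
      obtain ⟨e⟩ := twF_zero n T F
      exact reg_iso e (by simpa using h)
    exact KZ.clSub_ses (regP n T) hS ⟨h1, hr r1⟩ ⟨h2, hr r2⟩ ⟨h3, hr r3⟩
  | succ m ih =>
    intro S hS h1 h2 h3 r1 r2 r3
    have hb := ih _ (shortExact_tensor_left (isFinLocFree_eB n T) hS) (flf_eB_tensor h1) (flf_eB_tensor h2)
      (flf_eB_tensor h3) (reg_twF_tensor h1 r1).1 (reg_twF_tensor h2 r2).1 (reg_twF_tensor h3 r3).1
    have hq := ih _ (shortExact_tensor_left (isFinLocFree_eQ n T) hS) (flf_eQ_tensor h1) (flf_eQ_tensor h2)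
      (flf_eQ_tensor h3) (reg_twF_tensor h1 r1).2 (reg_twF_tensor h2 r2).2 (reg_twF_tensor h3 r3).2
    show Phi0 n T m _ - Phi0 n T m _ = (Phi0 n T m _ - Phi0 n T m _) + (Phi0 n T m _ - Phi0 n T m _)
    exact (congrArg₂ (· - ·) hb hq).trans (add_sub_add_comm _ _ _ _)

theorem mapSub_clSub {A : Type*} [Category A] [Abelian A] {B : Type*} [Category B] [Abelian B] (G : A ⥤ B)
    [G.Additive] [PreservesFiniteLimits G] [PreservesFiniteColimits G] (P : ObjectProperty A) (Q : ObjectProperty B)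
    (h : ∀ X, P X → Q (G.obj X)) {X : A} (hX : P X) :
    SGA6.mapSub G P Q h (KZero.clSub P X) = KZero.clSub Q (G.obj X) := by
  rw [KZ.clSub_of_prop P hX, KZ.clSub_of_prop Q (h X hX)]
  exact congrArg QuotientAddGroup.mk (FreeAbelianGroup.map_of_apply _)

theorem cl_eq_sub {F : (KRR.PY n T).Modules} (hF : FlatMod.IsFinLocFree F) :
    KRR.cl (KRR.PY n T) F =
      KRR.cl (KRR.PY n T) ((tR F).obj (eB n T)) - KRR.cl (KRR.PY n T) ((tR F).obj (eQ n T)) := by
  obtain ⟨e1⟩ := nonempty_structure_tensor F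
  rw [eq_sub_iff_add_eq, ← cl_iso e1 (flf_iso e1.symm hF)]
  exact (cl_ses (shortExact_eSC_tensor hF) (flf_iso e1.symm hF) (flf_eB_tensor hF) (flf_eQ_tensor hF)).symm

variable [IsNoetherian T]

/-- **`K₀` of regular bundles is `K₀` of bundles.** -/
theorem bijective_mapSub
    (h : ∀ M : (KRR.PY n T).Modules, FlatMod.IsFinLocFree M ∧ KRR.IsRegSheaf n T M → FlatMod.IsFinLocFree M) :
    Function.Bijective (SGA6.mapSub (𝟭 (KRR.PY n T).Modules) (regP n T) (KRR.vbP (KRR.PY n T)) h) := by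
  classical
  have hex : ∀ F : (KRR.PY n T).Modules, FlatMod.IsFinLocFree F →
      ∃ m : ℕ, KRR.IsRegSheaf n T (KRR.twF n T (m : ℤ) F) := fun F hF => by
    obtain ⟨m, hm⟩ := exists_reg_twF (isCoh_of_isFinLocFree hF)
    exact ⟨m, hm m le_rfl⟩
  let ψ : (KRR.PY n T).Modules → KZero.K0sub (regP n T) := fun F =>
    if hF : FlatMod.IsFinLocFree F then Phi0 n T (hex F hF).choose F else 0
  have hψ : ∀ (F : (KRR.PY n T).Modules), FlatMod.IsFinLocFree F → ∀ m : ℕ,
      KRR.IsRegSheaf n T (KRR.twF n T (m : ℤ) F) → ψ F = Phi0 n T m F := fun F hF m hm => by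
    show (if hF : FlatMod.IsFinLocFree F then _ else _) = _
    rw [dif_pos hF, ← Phi0_add hF (hex F hF).choose_spec m, add_comm, Phi0_add hF hm]
  obtain ⟨g, hg⟩ := KZ.exists_liftSub (KRR.vbP (KRR.PY n T)) ψ fun S hS h1 h2 h3 => by
    obtain ⟨a, ha⟩ := hex _ h1
    obtain ⟨b, hb⟩ := hex _ h2
    obtain ⟨c, hc⟩ := hex _ h3
    have ra : KRR.IsRegSheaf n T (KRR.twF n T ((a + b + c : ℕ) : ℤ) S.X₁) := by
      rw [add_assoc]; exact reg_twF_up ha _
    have rb : KRR.IsRegSheaf n T (KRR.twF n T ((a + b + c : ℕ) : ℤ) S.X₂) := by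
      rw [show a + b + c = b + (a + c) by omega]; exact reg_twF_up hb _
    have rc : KRR.IsRegSheaf n T (KRR.twF n T ((a + b + c : ℕ) : ℤ) S.X₃) := by
      rw [show a + b + c = c + (a + b) by omega]; exact reg_twF_up hc _
    rw [hψ _ h1 _ ra, hψ _ h2 _ rb, hψ _ h3 _ rc]
    exact Phi0_ses _ S hS h1 h2 h3 ra rb rc
  let Φ := SGA6.mapSub (𝟭 (KRR.PY n T).Modules) (regP n T) (KRR.vbP (KRR.PY n T)) h
  have h2 : ∀ (m : ℕ) (F : (KRR.PY n T).Modules), FlatMod.IsFinLocFree F →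
      KRR.IsRegSheaf n T (KRR.twF n T (m : ℤ) F) → Φ (Phi0 n T m F) = KRR.cl (KRR.PY n T) F := by
    intro m
    induction m with
    | zero =>
      intro F hF hr
      obtain ⟨e⟩ := twF_zero n T F
      exact mapSub_clSub _ _ _ h ⟨hF, reg_iso e (by simpa using hr)⟩
    | succ m ih =>
      intro F hF hr
      show Φ (Phi0 n T m _ - Phi0 n T m _) = _
      rw [map_sub, ih _ (flf_eB_tensor hF) (reg_twF_tensor hF hr).1,
        ih _ (flf_eQ_tensor hF) (reg_twF_tensor hF hr).2, ← cl_eq_sub hF]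
  have e1 : g.comp Φ = AddMonoidHom.id _ := KZ.K0sub_hom_ext _ fun F hF => by
    show g (Φ (KZero.clSub (regP n T) F)) = KZero.clSub (regP n T) F
    rw [mapSub_clSub _ _ _ h hF]
    refine (hg _ hF.1).trans ((hψ F hF.1 0 ?_).trans rfl)
    obtain ⟨e⟩ := twF_zero n T F
    simpa using reg_iso e.symm hF.2
  have e2 : Φ.comp g = AddMonoidHom.id _ := KZ.K0sub_hom_ext _ fun F hF => by
    show Φ (g (KZero.clSub (KRR.vbP (KRR.PY n T)) F)) = KZero.clSub (KRR.vbP (KRR.PY n T)) F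
    obtain ⟨m, hm⟩ := hex F hF
    rw [hg F hF, hψ F hF m hm]
    exact h2 m F hF hm
  exact ⟨Function.LeftInverse.injective (g := g) fun x => DFunLike.congr_fun e1 x,
    fun x => ⟨g x, DFunLike.congr_fun e2 x⟩⟩

end Groth.Agent.KRRLib.Pn
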