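import Groth.Agent.KRRLib.Pn.SerreVan
import Groth.Agent.KRRLib.Pn.RegBundle
import Groth.Agent.KFlatLib.Perfect.Tensor
import Groth.Agent.Lib.InvEnd

/-!
# Twists of bundles
-/

set_option autoImplicit false
set_option linter.style.haveILetI false
set_option backward.isDefEq.respectTransparency false
set_option backward.isDefEq.respectTransparency.types false

universe u

open CategoryTheory CategoryTheory.Limits AlgebraicGeometry TopologicalSpace

namespace Groth.Agent.KRRLib.Pn

open Groth.Agent

variable {n : ℕ} {T : Scheme.{u}}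

theorem isFinLocFree_of_isInvertible {M : T.Modules} (hM : PicF.IsInvertible M) : FlatMod.IsFinLocFree M :=
  fun y => let ⟨U, hy, he⟩ := InvEnd.isFinLocFreeOfRank_one hM y; ⟨U, 1, hy, he⟩

theorem isFinLocFree_twF (d : ℤ) {F : (KRR.PY n T).Modules} (hF : FlatMod.IsFinLocFree F) :
    FlatMod.IsFinLocFree (KRR.twF n T d F) :=
  KFlatLib.isFinLocFree_tensor (isFinLocFree_of_isInvertible (isInvertible_Tw n T d)) hF

theorem isCoh_of_isFinLocFree [IsLocallyNoetherian T] {F : (KRR.PY n T).Modules} (hF : FlatMod.IsFinLocFree F) :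
    Coh.IsCoh F :=
  haveI := isLocallyNoetherian_PY (n := n) (T := T)
  QCoh.isCoh_iff_isFP.2 (QCoh.isFP_of_isFinLocFree hF)

end Groth.Agent.KRRLib.Pn
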