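import Groth.Agent.KRRLib.Pn.Local
import Groth.Agent.KRRLib.Pn.Reg
import Groth.Agent.AmpleX.Proj
import Groth.Agent.AmpleVan.Pull
import Groth.Agent.AmpleVan.Uniform
import Groth.Agent.ZClosLib.CohDescent

/-!
# Vanishing of higher direct images of high twists
-/

set_option autoImplicit false
set_option linter.style.haveILetI false
set_option backward.isDefEq.respectTransparency false
set_option backward.isDefEq.respectTransparency.types false

universe u

open CategoryTheory CategoryTheory.Limits AlgebraicGeometry TopologicalSpace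

namespace Groth.Agent.KRRLib.Pn

open Groth.Agent Groth.Agent.PnCoh.Finite

variable {n : ℕ} {T : Scheme.{u}}

theorem isAmple_twist_gr : CohB1.IsAmple (Twist.twist (gr.{u} n) 1) := by
  classical
  refine AmpleX.isAmple_twist_one (gr.{u} n) (Finset.univ.image (coord n))
    (fun f hf => by
      obtain ⟨j, -, rfl⟩ := Finset.mem_image.1 hf
      exact coord_mem n j) ?_
  refine top_le_iff.1 fun x hx => ?_
  obtain ⟨j, hj⟩ := Opens.mem_iSup.1 ((coord_cover.{u} n).ge hx)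
  exact Opens.mem_iSup.2 ⟨⟨coord n j, Finset.mem_image_of_mem _ (Finset.mem_univ j)⟩, hj⟩

theorem isAmple_pullback_affine {X Z : Scheme.{u}} (f : Z ⟶ X) [IsAffineHom f] [CompactSpace Z]
    {L : X.Modules} (h : CohB1.IsAmple L) : CohB1.IsAmple ((Scheme.Modules.pullback f).obj L) := by
  refine AmpleX.isAmple_iff.2 ⟨PicClLib.isInvertible_pullback f h.1, inferInstance, fun z => ?_⟩
  obtain ⟨m, hm, s, hz, hs⟩ := (AmpleX.isAmple_iff.1 h).2.2 (f z)
  obtain ⟨e⟩ := PicClLib.nonempty_pullback_structureModule f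
  have hg := InvX.genLocus_pullback f (InvX.isInvertible_tensorPow h.1 m) s e.symm
  obtain ⟨t, ht⟩ := AmpleX.exists_section_of_cl_eq
    (B := CohB1.tensorPow ((Scheme.Modules.pullback f).obj L) m)
    (by
      show PicF.pullCl f (PicF.cl (CohB1.tensorPow L m)) = _
      rw [H23.PicMul.cl_tensorPow, H23.PicMul.pullCl_pow, H23.PicMul.cl_tensorPow]
      rfl) (e.symm.hom ≫ (Scheme.Modules.pullback f).map s)
  rw [hg] at ht
  exact ⟨m, hm, t, ht.symm ▸ hz, ht.symm ▸ hs.preimage f⟩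

theorem nonempty_pull_tensorPow {X Z : Scheme.{u}} (i : Z ⟶ X) (L : X.Modules) : ∀ n : ℕ,
    Nonempty ((Scheme.Modules.pullback i).obj (CohB1.tensorPow L n) ≅
      CohB1.tensorPow ((Scheme.Modules.pullback i).obj L) n)
  | 0 => ⟨(PicClLib.nonempty_pullback_structureModule i).some⟩
  | n + 1 => by
    obtain ⟨e⟩ := nonempty_pull_tensorPow i L n
    exact ⟨((KFlatLib.pullTensorBiIso i).app (CohB1.tensorPow L n)).app L ≪≫
      PicGrp.tensorModIso e (Iso.refl ((Scheme.Modules.pullback i).obj L))⟩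

theorem isAmple_Tw_one [IsAffine T] : CohB1.IsAmple (Tw n T 1) := by
  haveI : CompactSpace (KRR.PY n T) := QuasiCompact.compactSpace_of_compactSpace (KRR.pr n T)
  exact isAmple_pullback_affine (fstZ n T) isAmple_twist_gr

theorem nonempty_Tw_tensorPow (m : ℕ) :
    Nonempty (Tw n T (m : ℤ) ≅ CohB1.tensorPow (Tw n T 1) m) := by
  obtain ⟨e⟩ := twist_tensorPow_iso (coord n) (coord_mem n) (coord_cover.{u} n) m
  obtain ⟨e'⟩ := nonempty_pull_tensorPow (fstZ n T) (Twist.twist (gr.{u} n) 1) m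
  exact ⟨(Scheme.Modules.pullback (fstZ n T)).mapIso e ≪≫ e'⟩

/-- Serre vanishing over an affine base. -/
theorem exists_HH_twF_affine [IsAffine T] [IsNoetherian T] {G : (KRR.PY n T).Modules} (hG : Coh.IsCoh G) :
    ∃ m₀ : ℕ, ∀ m, m₀ ≤ m → ∀ q, Subsingleton (Coh.HH (KRR.PY n T) (KRR.twF n T (m : ℤ) G) (q + 1)) := by
  haveI : IsNoetherianRing Γ(T, ⊤) := IsLocallyNoetherian.component_noetherian ⟨⊤, isAffineOpen_top T⟩
  letI : (KRR.PY n T).Over (Spec (CommRingCat.of Γ(T, ⊤))) := ⟨KRR.pr n T ≫ T.isoSpec.hom⟩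
  haveI : IsProper ((KRR.PY n T) ↘ Spec (CommRingCat.of Γ(T, ⊤))) :=
    inferInstanceAs (IsProper (KRR.pr n T ≫ T.isoSpec.hom))
  obtain ⟨d, hd⟩ := AmpleVan.exists_vanishing (A := Γ(T, ⊤)) (isAmple_Tw_one (n := n) (T := T)) hG
  refine ⟨d, fun m hm q => ?_⟩
  obtain ⟨e⟩ := nonempty_Tw_tensorPow (n := n) (T := T) m
  exact QCoh.subsingleton_HH_of_iso
    ((((KFlatLib.tensorBiFlipIso (KRR.PY n T)).app (CohB1.tensorPow (Tw n T 1) m)).app G) ≪≫
      ((DCoh.tensorBi (X := KRR.PY n T)).mapIso e.symm).app G) (q + 1) (hd m hm q)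

theorem exists_twF_kW_iso (W : T.Opens) (d : ℤ) (G : (KRR.PY n T).Modules) :
    Nonempty ((Scheme.Modules.pullback (kW n W)).obj (KRR.twF n T d G) ≅
      KRR.twF n (W : Scheme.{u}) d ((Scheme.Modules.pullback (kW n W)).obj G)) :=
  ⟨((KFlatLib.pullTensorBiIso (kW n W)).app (Tw n T d)).app G ≪≫
    (DCoh.tensorBi.mapIso ((Scheme.Modules.pullbackComp _ _).app _ ≪≫
      (Scheme.Modules.pullbackCongr (kW_fst W)).app _)).app _⟩

/-- **Vanishing of the higher direct images of high twists.** -/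
theorem exists_isZero_R_twF [IsNoetherian T] {G : (KRR.PY n T).Modules} (hG : Coh.IsCoh G) :
    ∃ m₀ : ℕ, ∀ m : ℕ, m₀ ≤ m → ∀ i : ℕ, 1 ≤ i →
      IsZero ((R (KRR.pr n T) i).obj (KRR.twF n T (m : ℤ) G)) := by
  classical
  obtain ⟨s, hs, hcov⟩ := isCompact_iff_finite_and_eq_biUnion_affineOpens.mp
    (show IsCompact ((⊤ : T.Opens) : Set T) from isCompact_univ)
  have hloc : ∀ U : T.affineOpens, ∃ m₀ : ℕ, ∀ m, m₀ ≤ m → ∀ i, 1 ≤ i →
      IsZero ((R (KRR.pr n (U.1 : Scheme.{u})) i).obj (KRR.twF n (U.1 : Scheme.{u}) (m : ℤ)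
        ((Scheme.Modules.pullback (kW n U.1)).obj G))) := by
    intro U
    haveI : IsAffine (U.1 : Scheme.{u}) := U.2
    haveI := isLocallyNoetherian_of_isOpenImmersion U.1.ι
    haveI : IsNoetherian (U.1 : Scheme.{u}) := ⟨⟩
    have hG' := ZClosLib.isCoh_pullback (kW n U.1) hG
    obtain ⟨m₀, h⟩ := exists_HH_twF_affine hG'
    refine ⟨m₀, fun m hm i hi => ?_⟩
    obtain ⟨q, rfl⟩ : ∃ q, i = q + 1 := ⟨i - 1, by omega⟩
    exact isZero_R_of_subsingleton_HH _ (isQCoh_twF n _ _ hG'.1) (q + 1) (h m hm q)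
  choose m₀ hm₀ using hloc
  refine ⟨hs.toFinset.sup m₀, fun m hm i hi => ?_⟩
  refine QCoh.Ab.Rpush_isZero_of_bound (KRR.pr n T).base
    (fun W => IsAffineOpen W ∧ ∃ U ∈ s, W ≤ U.1) ?_ 0 (QCoh.abSheaf (KRR.twF n T (m : ℤ) G)) ?_ i (by omega)
  · intro V y hy
    obtain ⟨U, hU, hyU⟩ : ∃ U ∈ s, y ∈ U.1 := by
      have h : y ∈ ((⊤ : T.Opens) : Set T) := trivial
      rw [hcov] at h
      simpa using h
    obtain ⟨W, hW, hyW, hle⟩ := exists_isAffineOpen_mem_and_subset (X := T) (x := y) (U := V ⊓ U.1) ⟨hy, hyU⟩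
    exact ⟨W, fun z hz => (hle hz).1, hyW, hW, U, hU, fun z hz => (hle hz).2⟩
  · rintro W ⟨hW, U, hU, hWU⟩ q hq
    obtain ⟨q, rfl⟩ : ∃ r, q = r + 1 := ⟨q - 1, by omega⟩
    let W' : (U.1 : Scheme.{u}).Opens := U.1.ι ⁻¹ᵁ W
    have hWimg : U.1.ι ''ᵁ W' = W := by
      rw [Scheme.Hom.image_preimage_eq_opensRange_inf, Scheme.Opens.opensRange_ι, inf_eq_right.2 hWU]
    haveI : IsAffine (W' : Scheme.{u}) :=
      IsAffineOpen.preimage_of_isOpenImmersion hW U.1.ι (hWU.trans U.1.opensRange_ι.ge)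
    have hz := hm₀ U m ((Finset.le_sup (hs.mem_toFinset.2 hU)).trans hm) (q + 1) (by omega)
    obtain ⟨e⟩ := exists_twF_kW_iso (n := n) U.1 (m : ℤ) G
    have hz' := isZero_R_restrict W' (q + 1) (by omega) (isZero_R_iso _ _ e.symm hz)
    have hQ : Coh.IsQCoh ((Scheme.Modules.pullback (kW n W')).obj ((Scheme.Modules.pullback (kW n U.1)).obj
        (KRR.twF n T (m : ℤ) G))) :=
      QCoh.isQCoh_pullback _ (QCoh.isQCoh_pullback _ (isQCoh_twF n T _ hG.1))
    obtain ⟨e₂⟩ := QCoh.nonempty_HH_equiv_sections (KRR.pr n (W' : Scheme.{u})) hQ (q + 1)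
    haveI : Subsingleton (((Coh.RpushAb (KRR.pr n (W' : Scheme.{u})) (q + 1)).obj (Coh.toAb
        ((Scheme.Modules.pullback (kW n W')).obj ((Scheme.Modules.pullback (kW n U.1)).obj
          (KRR.twF n T (m : ℤ) G))))).obj.obj (Opposite.op ⊤)) :=
      AddCommGrpCat.subsingleton_of_isZero
        (((sheafToPresheaf _ _ ⋙ (CategoryTheory.evaluation _ _).obj (Opposite.op ⊤)).map_isZero hz'))
    have h := subsingleton_HU_of_HH (kW n W' ≫ kW n U.1) _ q
      (QCoh.subsingleton_HH_of_iso ((Scheme.Modules.pullbackComp _ _).app _) (q + 1) e₂.toEquiv.subsingleton)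
    have hr : (kW n W' ≫ kW n U.1).opensRange = KRR.pr n T ⁻¹ᵁ W := by
      rw [Scheme.Hom.opensRange_comp, opensRange_kW, image_preimage_kW, hWimg]
    rwa [hr] at h

/-- High twists of coherent modules are regular. -/
theorem exists_reg_twF [IsNoetherian T] {G : (KRR.PY n T).Modules} (hG : Coh.IsCoh G) :
    ∃ m₀ : ℕ, ∀ m : ℕ, m₀ ≤ m → KRR.IsRegSheaf n T (KRR.twF n T (m : ℤ) G) := by
  obtain ⟨m₀, h⟩ := exists_isZero_R_twF hG
  refine ⟨m₀ + n, fun m hm => reg_iff.2 fun i hi => ?_⟩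
  obtain ⟨e⟩ := twF_twF n T (-(i : ℤ)) (m : ℤ) G
  refine isZero_R_iso _ _ e.symm ?_
  rcases Nat.lt_or_ge n i with h' | h'
  · exact isZero_R_top (isQCoh_twF n T _ hG.1) i h'
  · exact isZero_R_twF_congr i (by omega) G (h (m - i) (by omega) i hi)

end Groth.Agent.KRRLib.Pn
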