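import Groth.Prelude.Def_KRR
import Groth.Agent.Lib.ProjShift
import Groth.Agent.PruferCoh.Closed
import Groth.Agent.KFlatLib.Scheme.PullTensor
import Groth.Agent.KFlatLib.Scheme.PullTensorCx
import Groth.Agent.KFlatLib.Scheme.Amplitude
import Groth.Agent.KFlatLib.Scheme.TensorAssoc
import Groth.Agent.PicClLib.Basic

/-!
# Twisting on projective space over a scheme
-/

set_option autoImplicit false
set_option backward.isDefEq.respectTransparency false
set_option backward.isDefEq.respectTransparency.types false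

universe u

open CategoryTheory CategoryTheory.Limits AlgebraicGeometry TopologicalSpace MonoidalCategory

namespace Groth.Agent.KRRLib.Pn

open Groth.Agent Groth.Agent.KFlatLib Groth.Agent.PnCoh.Finite

/-- The integers, lifted. -/
abbrev ZZ : Type u := ULift.{u} ℤ

/-- The grading. -/
noncomputable abbrev gr (n : ℕ) : ℕ → Submodule ZZ.{u} (MvPolynomial (Fin (n + 1)) ZZ.{u}) := CohB1.polyGrading n ZZ.{u}

/-- The coordinates. -/
noncomputable abbrev coord (n : ℕ) : ULift.{u} (Fin (n + 1)) → MvPolynomial (Fin (n + 1)) ZZ.{u} :=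
  PruferCoh.Xs n ZZ.{u}

theorem coord_mem (n : ℕ) (j : ULift.{u} (Fin (n + 1))) : coord n j ∈ gr n 1 := PruferCoh.Xs_mem n _ j

theorem coord_cover (n : ℕ) : ⨆ j, D (gr.{u} n) (coord n j) = ⊤ := PruferCoh.iSup_Xs n _

variable (n : ℕ) (T : Scheme.{u})

/-- The projection to projective space over the integers. -/
noncomputable def fstZ : KRR.PY n T ⟶ Proj (gr.{u} n) :=
  pullback.fst (CohB1.ProjSpace.toSpec n ZZ.{u}) (specULiftZIsTerminal.from T)

/-- The chart where a coordinate does not vanish. -/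
noncomputable def chart (j : ULift.{u} (Fin (n + 1))) : (KRR.PY n T).Opens :=
  fstZ n T ⁻¹ᵁ D (gr.{u} n) (coord n j)

theorem iSup_chart : ⨆ j, chart n T j = ⊤ :=
  top_le_iff.1 fun y _ => by
    obtain ⟨j, hj⟩ := Opens.mem_iSup.1 ((coord_cover n).ge (trivial : fstZ n T y ∈ ⊤))
    exact Opens.mem_iSup.2 ⟨j, hj⟩

/-- `O(d)`. -/
noncomputable abbrev Tw (d : ℤ) : (KRR.PY n T).Modules :=
  (Scheme.Modules.pullback (fstZ n T)).obj (Twist.twist (gr.{u} n) d)

theorem twistOver_eq (d : ℤ) : Twist.twistOver n T d = Tw n T d := rfl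

theorem twF_eq (d : ℤ) (F : (KRR.PY n T).Modules) :
    KRR.twF n T d F = ((DCoh.tensorBi (X := KRR.PY n T)).obj (Tw n T d)).obj F := rfl

theorem isInvertible_Tw (d : ℤ) : PicF.IsInvertible (Tw n T d) :=
  PicClLib.isInvertible_pullback _ (isInvertible_twist (coord n) (coord_mem n) (coord_cover n) d)

theorem isFlat_Tw (d : ℤ) : FlatMod.IsFlat (Tw n T d) :=
  isFlat_pullback _ (isFlat_twist (coord n) (coord_mem n) (coord_cover n) d)

/-- Twisting as a functor. -/
noncomputable abbrev twFun (d : ℤ) : (KRR.PY n T).Modules ⥤ (KRR.PY n T).Modules :=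
  (DCoh.tensorBi (X := KRR.PY n T)).obj (Tw n T d)

theorem shortExact_twFun (d : ℤ) {S : ShortComplex (KRR.PY n T).Modules} (hS : S.ShortExact) :
    (S.map (twFun n T d)).ShortExact := by
  have h := flatObj_of_isFlat (isFlat_Tw n T d) S hS
  exact ShortComplex.shortExact_of_iso (S.mapNatIso ((tensorBiFlipIso (KRR.PY n T)).app (Tw n T d))) h

theorem isQCoh_twF (d : ℤ) {F : (KRR.PY n T).Modules} (hF : Coh.IsQCoh F) : Coh.IsQCoh (KRR.twF n T d F) :=
  KFlatLib.isQCoh_tensor (QCoh.isQCoh_pullback _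
    (PnCoh.isQCoh_twist (coord n) (coord_mem n) (coord_cover n) d)) hF

/-- Multiplication by a coordinate on twists. -/
noncomputable def xTw (j : ULift.{u} (Fin (n + 1))) (d : ℤ) : Tw n T (d - 1) ⟶ Tw n T d :=
  (Scheme.Modules.pullback (fstZ n T)).map (ProjShift.xHom (coord_mem n j) d)

theorem xTw_comm (i j : ULift.{u} (Fin (n + 1))) (d : ℤ) :
    xTw n T i (d - 1) ≫ xTw n T j d = xTw n T j (d - 1) ≫ xTw n T i d := by
  rw [xTw, xTw, xTw, xTw, ← Functor.map_comp, ← Functor.map_comp, ProjShift.xHom_comm]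

theorem isIso_stalk_xTw {j : ULift.{u} (Fin (n + 1))} {y : KRR.PY n T} (hy : y ∈ chart n T j) (d : ℤ) :
    IsIso ((DerSch.stalkFunctor (KRR.PY n T) y).map (xTw n T j d)) := by
  haveI : IsIso ((stalkP (fstZ n T y)).map (DCoh.toP.map (ProjShift.xHom (coord_mem n j) d))) :=
    (ConcreteCategory.isIso_iff_bijective _).2 (ProjShift.bijective_stalk (coord_mem n j) hy d)
  haveI : IsIso ((DerSch.stalkFunctor (Proj (gr.{u} n)) (fstZ n T y)).map (ProjShift.xHom (coord_mem n j) d)) :=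
    (NatIso.isIso_map_iff (stalkToPIso (fstZ n T y)) (ProjShift.xHom (coord_mem n j) d)).2 this
  exact (NatIso.isIso_map_iff (stalkPullbackIso (fstZ n T) y) (ProjShift.xHom (coord_mem n j) d)).2
    (Functor.map_isIso (ModuleCat.extendScalars _)
      ((DerSch.stalkFunctor (Proj (gr.{u} n)) (fstZ n T y)).map (ProjShift.xHom (coord_mem n j) d)))

/-- Multiplication by a coordinate on twists of a module. -/
noncomputable def xF (F : (KRR.PY n T).Modules) (j : ULift.{u} (Fin (n + 1))) (d : ℤ) :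
    KRR.twF n T (d - 1) F ⟶ KRR.twF n T d F :=
  ((DCoh.tensorBi (X := KRR.PY n T)).map (xTw n T j d)).app F

theorem xF_comm (F : (KRR.PY n T).Modules) (i j : ULift.{u} (Fin (n + 1))) (d : ℤ) :
    xF n T F i (d - 1) ≫ xF n T F j d = xF n T F j (d - 1) ≫ xF n T F i d := by
  show ((DCoh.tensorBi (X := KRR.PY n T)).map (xTw n T i (d - 1))).app F ≫
      ((DCoh.tensorBi (X := KRR.PY n T)).map (xTw n T j d)).app F =
    ((DCoh.tensorBi (X := KRR.PY n T)).map (xTw n T j (d - 1))).app F ≫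
      ((DCoh.tensorBi (X := KRR.PY n T)).map (xTw n T i d)).app F
  rw [← NatTrans.comp_app, ← NatTrans.comp_app, ← Functor.map_comp, ← Functor.map_comp, xTw_comm]

theorem isIso_stalk_xF (F : (KRR.PY n T).Modules) {j : ULift.{u} (Fin (n + 1))} {y : KRR.PY n T}
    (hy : y ∈ chart n T j) (d : ℤ) : IsIso ((DerSch.stalkFunctor (KRR.PY n T) y).map (xF n T F j d)) := by
  haveI := isIso_stalk_xTw n T hy d
  exact (NatIso.isIso_map_iff (stalkTensorRightIso F y) (xTw n T j d)).2
    (Functor.map_isIso (tensorRight _) ((DerSch.stalkFunctor (KRR.PY n T) y).map (xTw n T j d)))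

theorem bijective_xF (F : (KRR.PY n T).Modules) {j : ULift.{u} (Fin (n + 1))} {y : KRR.PY n T}
    (hy : y ∈ chart n T j) (d : ℤ) : Function.Bijective ((stalkAb y).map (xF n T F j d)) := by
  haveI := isIso_stalk_xF n T F hy d
  exact (ConcreteCategory.isIso_iff_bijective _).1
    (Functor.map_isIso (forget₂ (ModuleCat ((KRR.PY n T).presheaf.stalk y)) AddCommGrpCat)
      ((DerSch.stalkFunctor (KRR.PY n T) y).map (xF n T F j d)))

theorem covered (F : (KRR.PY n T).Modules) (y : KRR.PY n T) :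
    ∃ j ∈ (Finset.univ : Finset (ULift.{u} (Fin (n + 1)))).toList,
      ∀ d, Function.Bijective ((stalkAb y).map (xF n T F j d)) := by
  obtain ⟨j, hj⟩ := Opens.mem_iSup.1 ((iSup_chart n T).ge (trivial : y ∈ (⊤ : (KRR.PY n T).Opens)))
  exact ⟨j, Finset.mem_toList.2 (Finset.mem_univ j), fun d => bijective_xF n T F hj d⟩

theorem exists_Tw_zero : Nonempty (Tw n T 0 ≅ Coh.structureModule (KRR.PY n T)) := by
  obtain ⟨e⟩ := PicClLib.nonempty_pullback_structureModule (fstZ n T)
  haveI := isIso_oneHom (coord n) (coord_mem n) (coord_cover.{u} n)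
  exact ⟨(Scheme.Modules.pullback (fstZ n T)).mapIso (asIso (oneHom (𝒜 := gr.{u} n))).symm ≪≫ e⟩

theorem exists_Tw_add (a b : ℤ) :
    Nonempty (((DCoh.tensorBi (X := KRR.PY n T)).obj (Tw n T a)).obj (Tw n T b) ≅ Tw n T (a + b)) := by
  obtain ⟨e⟩ := twist_tensor_iso (coord n) (coord_mem n) (coord_cover.{u} n) a b
  exact ⟨(((KFlatLib.pullTensorBiIso (fstZ n T)).app (Twist.twist (gr.{u} n) a)).app
    (Twist.twist (gr.{u} n) b)).symm ≪≫ (Scheme.Modules.pullback (fstZ n T)).mapIso e⟩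

theorem twF_twF (a b : ℤ) (F : (KRR.PY n T).Modules) :
    Nonempty (KRR.twF n T a (KRR.twF n T b F) ≅ KRR.twF n T (a + b) F) := by
  obtain ⟨e⟩ := exists_Tw_add n T a b
  exact ⟨((((KFlatLib.tensorAssocSch (KRR.PY n T)).app (Tw n T a)).app (Tw n T b)).app F).symm ≪≫
    ((DCoh.tensorBi (X := KRR.PY n T)).mapIso e).app F⟩

/-- Twisting by zero is the identity, naturally. -/
theorem exists_twFun_zero : Nonempty (twFun n T 0 ≅ 𝟭 (KRR.PY n T).Modules) := by
  obtain ⟨e⟩ := exists_Tw_zero n T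
  exact ⟨(DCoh.tensorBi (X := KRR.PY n T)).mapIso e ≪≫
    ((tensorBiFlipIso (KRR.PY n T)).app (Coh.structureModule (KRR.PY n T))).symm ≪≫
    tensorStructureIso (KRR.PY n T)⟩

theorem twF_zero (F : (KRR.PY n T).Modules) : Nonempty (KRR.twF n T 0 F ≅ F) := by
  obtain ⟨e⟩ := exists_twFun_zero n T
  exact ⟨e.app F⟩

end Groth.Agent.KRRLib.Pn
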